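import Groth.Agent.L27.ExtZero.Restr
import Groth.Agent.L28.ExtShriek.Local
import Groth.Agent.L28.Misc.MuConst
import Groth.Prelude.Def_EtDual
import Mathlib.CategoryTheory.Sites.LocallyBijective
import Mathlib.RingTheory.Etale.StandardEtale
import Mathlib.FieldTheory.IsAlgClosed.AlgebraicClosure

/-!
Tate twists are constant on etale schemes with a primitive root of unity.
-/

set_option autoImplicit false
set_option linter.style.haveILetI false
set_option linter.unusedSectionVars false
set_option linter.unusedVariables false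
set_option backward.isDefEq.respectTransparency.types false

universe u

open CategoryTheory CategoryTheory.Limits AlgebraicGeometry Opposite TensorProduct

namespace Groth.L28.Supp

variable {X V : Scheme.{u}}

/-- the functoriality of the tensor product of presheaves -/
noncomputable def tensorPreMap {F F' G G' : EtCoh.Ab X} (a : F ⟶ F') (b : G ⟶ G') :
    EtDual.tensorPre F G ⟶ EtDual.tensorPre F' G' where
  app U := AddCommGrpCat.ofHom
    (TensorProduct.map (a.hom.app U).hom.toIntLinearMap (b.hom.app U).hom.toIntLinearMap).toAddMonoidHom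
  naturality U U' f := by
    refine ConcreteCategory.hom_ext _ _ fun x => ?_
    change (F.obj.obj U) ⊗[ℤ] (G.obj.obj U) at x
    show TensorProduct.map (a.hom.app U').hom.toIntLinearMap (b.hom.app U').hom.toIntLinearMap
      (TensorProduct.map (EtDual.resLin F f) (EtDual.resLin G f) x) =
      TensorProduct.map (EtDual.resLin F' f) (EtDual.resLin G' f)
        (TensorProduct.map (a.hom.app U).hom.toIntLinearMap (b.hom.app U).hom.toIntLinearMap x)
    induction x using TensorProduct.induction_on with
    | zero => simp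
    | tmul s t =>
      simp only [TensorProduct.map_tmul]
      exact congrArg₂ (TensorProduct.tmul ℤ) (NatTrans.naturality_apply a.hom f s)
        (NatTrans.naturality_apply b.hom f t)
    | add p q hp hq => simp only [map_add, hp, hq]

/-- tensor products of isomorphic sheaves -/
noncomputable def tensorAbIso {F F' G G' : EtCoh.Ab X} (a : F ≅ F') (b : G ≅ G') :
    EtDual.tensorAb F G ≅ EtDual.tensorAb F' G' :=
  (presheafToSheaf X.smallEtaleTopology AddCommGrpCat.{u + 1}).mapIso
    { hom := tensorPreMap a.hom b.hom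
      inv := tensorPreMap a.inv b.inv
      hom_inv_id := by
        refine NatTrans.ext (funext fun U => ConcreteCategory.hom_ext _ _ fun x => ?_)
        change (F.obj.obj U) ⊗[ℤ] (G.obj.obj U) at x
        show TensorProduct.map (a.inv.hom.app U).hom.toIntLinearMap (b.inv.hom.app U).hom.toIntLinearMap
          (TensorProduct.map (a.hom.hom.app U).hom.toIntLinearMap (b.hom.hom.app U).hom.toIntLinearMap x) = x
        induction x using TensorProduct.induction_on with
        | zero => simp
        | tmul s t =>
          simp only [TensorProduct.map_tmul]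
          exact congrArg₂ (TensorProduct.tmul ℤ)
            (ConcreteCategory.congr_hom (congrArg (fun k => k.hom.app U) a.hom_inv_id) s)
            (ConcreteCategory.congr_hom (congrArg (fun k => k.hom.app U) b.hom_inv_id) t)
        | add p q hp hq => simp only [map_add, hp, hq]
      inv_hom_id := by
        refine NatTrans.ext (funext fun U => ConcreteCategory.hom_ext _ _ fun x => ?_)
        change (F'.obj.obj U) ⊗[ℤ] (G'.obj.obj U) at x
        show TensorProduct.map (a.hom.hom.app U).hom.toIntLinearMap (b.hom.hom.app U).hom.toIntLinearMap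
          (TensorProduct.map (a.inv.hom.app U).hom.toIntLinearMap (b.inv.hom.app U).hom.toIntLinearMap x) = x
        induction x using TensorProduct.induction_on with
        | zero => simp
        | tmul s t =>
          simp only [TensorProduct.map_tmul]
          exact congrArg₂ (TensorProduct.tmul ℤ)
            (ConcreteCategory.congr_hom (congrArg (fun k => k.hom.app U) a.inv_hom_id) s)
            (ConcreteCategory.congr_hom (congrArg (fun k => k.hom.app U) b.inv_hom_id) t)
        | add p q hp hq => simp only [map_add, hp, hq] }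

section Restr

variable (v : V ⟶ X) [AlgebraicGeometry.Etale v] [EtShriek.JCont v]

/-- restriction commutes with tensor products -/
noncomputable def restrTensor (F G : EtCoh.Ab X) :
    (EtShriek.restrAlong v).obj (EtDual.tensorAb F G) ≅
      EtDual.tensorAb ((EtShriek.restrAlong v).obj F) ((EtShriek.restrAlong v).obj G) :=
  haveI := Groth.L28.ExtShriek.isCocontinuous_compEtale v
  (((EtShriek.compEtale v).pushforwardContinuousSheafificationCompatibility AddCommGrpCat.{u + 1}
    V.smallEtaleTopology X.smallEtaleTopology).app (EtDual.tensorPre F G)).symm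

/-- restriction commutes with constant sheaves -/
noncomputable def restrConst (M : Type) [AddCommGroup M] :
    (EtShriek.restrAlong v).obj (EtCoh.const X M) ≅ EtCoh.const V M :=
  haveI := Groth.L28.ExtShriek.isCocontinuous_compEtale v
  LocConst.constCompat (J := V.smallEtaleTopology) (K := X.smallEtaleTopology) (EtShriek.compEtale v) _

/-- restriction preserves the multiplicative group -/
noncomputable def restrGm : (EtShriek.restrAlong v).obj (EtCoh.Gm X) ≅ EtCoh.Gm V :=
  (fullyFaithfulSheafToPresheaf V.smallEtaleTopology AddCommGrpCat.{u + 1}).preimageIso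
    (NatIso.ofComponents (fun _ => Iso.refl _) (fun _ => rfl))

/-- restriction preserves roots of unity -/
noncomputable def restrMu (n : ℕ) : (EtShriek.restrAlong v).obj (EtCoh.mu X n) ≅ EtCoh.mu V n :=
  haveI : PreservesLimitsOfSize.{0, 0} (EtShriek.restrAlong v) :=
    (EtShriek.extZeroAdj v).rightAdjoint_preservesLimits
  PreservesKernel.iso (EtShriek.restrAlong v) (EtCoh.powMap X n) ≪≫
    kernel.mapIso ((EtShriek.restrAlong v).map (EtCoh.powMap X n)) (EtCoh.powMap V n) (restrGm v) (restrGm v) (by
      rw [EtCoh.powMap, EtCoh.powMap, Functor.map_nsmul, CategoryTheory.Functor.map_id, Preadditive.nsmul_comp,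
        Preadditive.comp_nsmul, Category.id_comp, Category.comp_id])

end Restr

section Const

variable (n : ℕ)

/-- multiplication by the unit section -/
noncomputable def unitMap (e : ∀ U : X.Etaleᵒᵖ, (EtCoh.const X (ZMod n)).obj.obj U)
    (he : ∀ {U U' : X.Etaleᵒᵖ} (f : U ⟶ U'), (EtCoh.const X (ZMod n)).obj.map f (e U) = e U') (F : EtCoh.Ab X) :
    F.obj ⟶ EtDual.tensorPre F (EtCoh.const X (ZMod n)) where
  app U := AddCommGrpCat.ofHom
    { toFun := fun s => s ⊗ₜ[ℤ] e U
      map_zero' := zero_tmul _ _
      map_add' := fun a b => add_tmul a b _ }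
  naturality U U' f := ConcreteCategory.hom_ext _ _ fun s =>
    (congrArg (fun q => F.obj.map f s ⊗ₜ[ℤ] q) (he f)).symm

theorem nonempty_tensorAb_const_iso [NeZero n] (F : EtCoh.Ab X) (hF : n • 𝟙 F = 0) :
    Nonempty (EtDual.tensorAb F (EtCoh.const X (ZMod n)) ≅ F) := by
  let P := (Functor.const X.Etaleᵒᵖ).obj (AddCommGrpCat.of (ULift.{u + 1} (ZMod n)))
  let η : P ⟶ (EtCoh.const X (ZMod n)).obj := toSheafify X.smallEtaleTopology P
  haveI : Presheaf.IsLocallySurjective X.smallEtaleTopology η :=
    inferInstanceAs (Presheaf.IsLocallySurjective X.smallEtaleTopology (toSheafify X.smallEtaleTopology P))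
  let e : ∀ U : X.Etaleᵒᵖ, (EtCoh.const X (ZMod n)).obj.obj U := fun U => η.app U ⟨1⟩
  have he : ∀ {U U' : X.Etaleᵒᵖ} (f : U ⟶ U'), (EtCoh.const X (ZMod n)).obj.map f (e U) = e U' :=
    fun f => (NatTrans.naturality_apply η f ⟨1⟩).symm
  let φ := unitMap n e he F
  let ψ : F.obj ⟶ (EtDual.tensorAb F (EtCoh.const X (ZMod n))).obj :=
    φ ≫ toSheafify X.smallEtaleTopology (EtDual.tensorPre F (EtCoh.const X (ZMod n)))
  haveI hs : Presheaf.IsLocallySurjective X.smallEtaleTopology φ := ⟨fun {U} x => by
    induction x using TensorProduct.induction_on with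
    | zero =>
      exact X.smallEtaleTopology.superset_covering (fun W g _ => ⟨0, (map_zero _).trans (map_zero _).symm⟩)
        (X.smallEtaleTopology.top_mem _)
    | tmul s t =>
      refine X.smallEtaleTopology.superset_covering (fun W g hg => ?_)
        (Presheaf.imageSieve_mem X.smallEtaleTopology η t)
      obtain ⟨⟨m⟩, hm⟩ := hg
      refine ⟨m.val • F.obj.map g.op s, ?_⟩
      show (m.val • F.obj.map g.op s) ⊗ₜ[ℤ] e (op W) = F.obj.map g.op s ⊗ₜ[ℤ] (EtCoh.const X (ZMod n)).obj.map g.op t
      rw [← hm, smul_tmul]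
      refine congrArg (fun q => F.obj.map g.op s ⊗ₜ[ℤ] q) ?_
      show m.val • η.app (op W) ⟨1⟩ = η.app (op W) ⟨m⟩
      rw [← map_nsmul]
      refine congrArg (η.app (op W)) (ULift.ext _ _ ?_)
      show m.val • (1 : ZMod n) = m
      rw [nsmul_one, ZMod.natCast_zmod_val]
    | add p q hp hq =>
      refine X.smallEtaleTopology.superset_covering (fun W g hg => ?_)
        (X.smallEtaleTopology.intersection_covering hp hq)
      obtain ⟨⟨a, ha⟩, ⟨b, hb⟩⟩ := hg
      exact ⟨a + b, by rw [map_add, ha, hb]; exact (map_add _ _ _).symm⟩⟩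
  haveI hi : Presheaf.IsLocallyInjective X.smallEtaleTopology φ := ⟨fun {U} s t hst => by
    rcases isEmpty_or_nonempty U.unop.left with hU | ⟨⟨x⟩⟩
    · exact (Groth.L27.EtSite.mem_topology_iff _).2 fun x => isEmptyElim x
    suffices s = t by subst this; rw [Presheaf.equalizerSieve_self_eq_top]; exact X.smallEtaleTopology.top_mem _
    let Ω := AlgebraicClosure ↑(U.unop.left.residueField x)
    let η₀ : Spec (CommRingCat.of Ω) ⟶ U.unop.left :=
      Spec.map (CommRingCat.ofHom (algebraMap ↑(U.unop.left.residueField x) Ω)) ≫ U.unop.left.fromSpecResidueField x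
    let Φ := Scheme.pointSmallEtale (η₀ ≫ U.unop.hom)
    let tp : Φ.fiber.obj (EtCoh.top X) := Over.homMk (η₀ ≫ U.unop.hom) (Category.comp_id _)
    let pt : Φ.fiber.obj U.unop := Over.homMk η₀ rfl
    let g : U.unop ⟶ EtCoh.top X := MorphismProperty.Over.homMk U.unop.hom (Category.comp_id _)
    let b := AddEquiv.ofBijective
      ((Φ.toPresheafFiber (EtCoh.top X) tp (EtCoh.const X (ZMod n)).obj).hom.comp
        ((EtCore.constAdj X).unit.app (AddCommGrpCat.of (ULift.{u + 1} (ZMod n)))).hom)
      (Spz.bijective_constGerm (M := ZMod n) (η₀ ≫ U.unop.hom) tp)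
    let r : (EtCoh.const X (ZMod n)).obj.obj U →+ ZMod n :=
      AddEquiv.ulift.toAddMonoidHom.comp (b.symm.toAddMonoidHom.comp (Φ.toPresheafFiber U.unop pt (EtCoh.const X (ZMod n)).obj).hom)
    have hr : r (e U) = 1 := by
      have h1 : Φ.toPresheafFiber U.unop pt (EtCoh.const X (ZMod n)).obj (e U) = b ⟨1⟩ := by
        rw [← he g.op]
        refine (GrothendieckTopology.Point.toPresheafFiber_w_apply Φ g pt _ _).trans ?_
        refine congrArg₂ (fun p q => Φ.toPresheafFiber (EtCoh.top X) p (EtCoh.const X (ZMod n)).obj q)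
          (Over.OverMorphism.ext (Category.comp_id _).symm) ?_
        rfl
      show (b.symm (Φ.toPresheafFiber U.unop pt (EtCoh.const X (ZMod n)).obj (e U))).down = 1
      rw [h1, AddEquiv.symm_apply_apply]
    letI : Module (ZMod n) (F.obj.obj U) := AddCommGroup.zmodModule fun a => by
      have := ConcreteCategory.congr_hom (congrArg (fun k => k.hom.app U) hF) a
      exact this
    let ev : (F.obj.obj U) ⊗[ℤ] ((EtCoh.const X (ZMod n)).obj.obj U) →ₗ[ℤ] F.obj.obj U :=
      TensorProduct.lift ((LinearMap.mk₂ ℤ (fun (a : F.obj.obj U) (c : ZMod n) => c • a)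
        (fun a a' c => smul_add c a a') (fun z a c => smul_comm c z a) (fun a c c' => add_smul c c' a)
        (fun z a c => smul_assoc z c a)).compl₂ r.toIntLinearMap)
    have hev : ∀ a, ev (a ⊗ₜ[ℤ] e U) = a := fun a => by
      show r (e U) • a = a
      rw [hr, one_smul]
    exact ((hev s).symm.trans (congrArg ev hst)).trans (hev t)⟩
  have hψ : Presheaf.IsLocallyInjective X.smallEtaleTopology ψ ∧ Presheaf.IsLocallySurjective X.smallEtaleTopology ψ :=
    ⟨Presheaf.isLocallyInjective_comp X.smallEtaleTopology φ (toSheafify X.smallEtaleTopology _),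
      Presheaf.isLocallySurjective_comp X.smallEtaleTopology φ (toSheafify X.smallEtaleTopology _)⟩
  haveI hl := hψ.1
  haveI hr := hψ.2
  let ψ' : F ⟶ EtDual.tensorAb F (EtCoh.const X (ZMod n)) := ⟨ψ⟩
  haveI : IsIso ψ' := by
    haveI : Sheaf.IsLocallyInjective ψ' := hψ.1
    haveI : Sheaf.IsLocallySurjective ψ' := hψ.2
    exact (Sheaf.isLocallyBijective_iff_isIso ψ').1 ⟨inferInstance, inferInstance⟩
  exact ⟨(asIso ψ').symm⟩

end Const

section Roots

variable (n : ℕ)

theorem nsmul_const_eq_zero : n • 𝟙 (EtCoh.const X (ZMod n)) = 0 := by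
  haveI : (EtCore.gsec X).Additive := { }
  haveI : (constantSheaf X.smallEtaleTopology AddCommGrpCat.{u + 1}).Additive :=
    (EtCore.constAdj X).left_adjoint_additive
  rw [← CategoryTheory.Functor.map_id, ← Functor.map_nsmul,
    show n • 𝟙 (AddCommGrpCat.of (ULift.{u + 1} (ZMod n))) = 0 from
      ConcreteCategory.hom_ext _ _ fun m => ULift.ext _ _ (ZModModule.char_nsmul_eq_zero n m.down), Functor.map_zero]

theorem nonempty_restr_tate_iso (v : V ⟶ X) [AlgebraicGeometry.Etale v] [EtShriek.JCont v] [NeZero n]
    (μ : Nonempty (EtCoh.mu V n ≅ EtCoh.const V (ZMod n))) (d : ℕ) :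
    Nonempty ((EtShriek.restrAlong v).obj (EtDual.tate X n d) ≅ EtCoh.const V (ZMod n)) := by
  induction d with
  | zero => exact ⟨restrConst v (ZMod n)⟩
  | succ d ih =>
    obtain ⟨a⟩ := ih
    obtain ⟨b⟩ := μ
    obtain ⟨c⟩ := nonempty_tensorAb_const_iso n (EtCoh.const V (ZMod n)) (nsmul_const_eq_zero n)
    exact ⟨restrTensor v _ _ ≪≫ tensorAbIso a (restrMu v n ≪≫ b) ≪≫ c⟩

end Roots

end Groth.L28.Supp
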