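import Groth.Agent.L28.LocCoh.Shift
import Mathlib.Algebra.Homology.ShortComplex.Ab
import Mathlib.Algebra.Category.Grp.Zero
import Mathlib.CategoryTheory.Abelian.Exact
import Mathlib.Algebra.Homology.ShortComplex.ExactFunctor

/-!
Right derived functors of composites in degrees where the inner functor is concentrated, and of
extensions of functors.
-/

set_option autoImplicit false
set_option linter.style.haveILetI false

universe w v v' v'' u u' u''

open CategoryTheory CategoryTheory.Limits
open Groth.L28.LocCoh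

namespace Groth.L28.Supp

variable {C : Type u} [Category.{v} C] [Abelian C] [EnoughInjectives C]
  {D : Type u'} [Category.{v'} D] [Abelian D] {E : Type u''} [Category.{v''} E] [Abelian E]

theorem exists_presentation (F : C) : ∃ T : ShortComplex C, T.ShortExact ∧ Injective T.X₂ ∧ T.X₁ = F :=
  ⟨ShortComplex.mk (Injective.ι F) (cokernel.π _) (cokernel.condition _),
    { exact := ShortComplex.exact_of_g_is_cokernel _ (cokernelIsCokernel (Injective.ι F))
      mono_f := inferInstanceAs (Mono (Injective.ι F))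
      epi_g := inferInstanceAs (Epi (cokernel.π (Injective.ι F))) },
    inferInstanceAs (Injective (Injective.under F)), rfl⟩

/-- natural isomorphisms derive -/
theorem nonempty_rightDerived_iso {S S' : C ⥤ D} [S.Additive] [S'.Additive] (e : S ≅ S') (n : ℕ) (F : C) :
    Nonempty ((S.rightDerived n).obj F ≅ (S'.rightDerived n).obj F) := by
  let i : S.rightDerived n ≅ S'.rightDerived n :=
    { hom := NatTrans.rightDerived e.hom n
      inv := NatTrans.rightDerived e.inv n
      hom_inv_id := by rw [← NatTrans.rightDerived_comp, e.hom_inv_id, NatTrans.rightDerived_id]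
      inv_hom_id := by rw [← NatTrans.rightDerived_comp, e.inv_hom_id, NatTrans.rightDerived_id] }
  exact ⟨i.app F⟩

/-- an additive functor preserves the cokernel of a regular morphism -/
theorem nonempty_map_cokernel_of_regular (G : D ⥤ E) [G.Additive] {A B : D} (f : A ⟶ B) (h : B ⟶ A)
    (hf : f ≫ h ≫ f = f) : Nonempty (G.obj (cokernel f) ≅ cokernel (G.map f)) := by
  let s : cokernel f ⟶ B := cokernel.desc f (𝟙 B - h ≫ f) (by
    rw [Preadditive.comp_sub, Category.comp_id, hf, sub_self])
  have hs : cokernel.π f ≫ s = 𝟙 B - h ≫ f := cokernel.π_desc _ _ _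
  have hs' : s ≫ cokernel.π f = 𝟙 _ := by
    rw [← cancel_epi (cokernel.π f), ← Category.assoc, hs, Preadditive.sub_comp, Category.assoc,
      cokernel.condition, comp_zero, sub_zero, Category.id_comp, Category.comp_id]
  refine ⟨⟨G.map s ≫ cokernel.π (G.map f), cokernel.desc (G.map f) (G.map (cokernel.π f))
    (by rw [← G.map_comp, cokernel.condition, G.map_zero]), ?_, ?_⟩⟩
  · rw [Category.assoc, cokernel.π_desc, ← G.map_comp, hs', G.map_id]
  · rw [← cancel_epi (cokernel.π (G.map f)), cokernel.π_desc_assoc, ← Category.assoc, ← G.map_comp, hs,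
      G.map_sub, G.map_id, G.map_comp, Preadditive.sub_comp, Category.assoc, cokernel.condition, comp_zero,
      sub_zero, Category.id_comp, Category.comp_id]

/-- a morphism out of an injective object whose kernel is injective and whose target admits
extensions from injective subobjects is regular -/
theorem exists_regular {T : ShortComplex D} (hT : T.Exact) [Mono T.f] [Injective T.X₁] [Injective T.X₂] :
    ∃ h : T.X₃ ⟶ T.X₂, T.g ≫ h ≫ T.g = T.g := by
  let r : T.X₂ ⟶ T.X₁ := Injective.factorThru (𝟙 _) T.f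
  have hr : T.f ≫ r = 𝟙 _ := Injective.comp_factorThru _ _
  let π := cokernel.π T.f
  let s : cokernel T.f ⟶ T.X₂ := cokernel.desc T.f (𝟙 _ - r ≫ T.f) (by
    rw [Preadditive.comp_sub, Category.comp_id, ← Category.assoc, hr, Category.id_comp, sub_self])
  have hs : π ≫ s = 𝟙 _ - r ≫ T.f := cokernel.π_desc _ _ _
  have hs' : s ≫ π = 𝟙 _ := by
    rw [← cancel_epi π, ← Category.assoc, hs, Preadditive.sub_comp, Category.assoc, cokernel.condition,
      comp_zero, sub_zero, Category.id_comp, Category.comp_id]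
  haveI : Injective (cokernel T.f) := (Retract.mk s π hs').injective
  let m : cokernel T.f ⟶ T.X₃ := cokernel.desc T.f T.g T.zero
  haveI : Mono m := (T.exact_iff_mono_cokernel_desc).1 hT
  let q : T.X₃ ⟶ cokernel T.f := Injective.factorThru (𝟙 _) m
  have hq : m ≫ q = 𝟙 _ := Injective.comp_factorThru _ _
  have hg : T.g = π ≫ m := (cokernel.π_desc _ _ _).symm
  refine ⟨q ≫ s, ?_⟩
  calc T.g ≫ (q ≫ s) ≫ T.g = π ≫ (m ≫ q) ≫ (s ≫ π) ≫ m := by rw [hg]; simp only [Category.assoc]
    _ = T.g := by rw [hq, hs', hg, Category.id_comp, Category.id_comp]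

section Comp

variable (L : C ⥤ D) [L.Additive] [PreservesFiniteLimits L] (G : D ⥤ E) [G.Additive] [PreservesFiniteLimits G]

theorem nonempty_comp_iso_succ (hL : ∀ I : C, Injective I → Injective (L.obj I)) (m : ℕ) :
    ∀ F : C, Injective (L.obj F) → (∀ p, 1 ≤ p → p ≤ m → IsZero ((L.rightDerived p).obj F)) →
      Nonempty (((L ⋙ G).rightDerived (m + 1)).obj F ≅ G.obj ((L.rightDerived (m + 1)).obj F)) := by
  haveI : PreservesFiniteLimits (L ⋙ G) := comp_preservesFiniteLimits _ _
  induction m with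
  | zero =>
    intro F hF _
    obtain ⟨T, hT, hI, rfl⟩ := exists_presentation F
    haveI : Injective (T.map L).X₁ := hF
    haveI : Injective (T.map L).X₂ := hL _ hI
    have hM := ((L.preservesFiniteLimits_tfae).out 3 0 rfl rfl).1 ‹_› T hT
    haveI : Mono (T.map L).f := hM.2
    obtain ⟨h, hh⟩ := exists_regular hM.1
    obtain ⟨a⟩ := nonempty_cokernel_zero_iso (L ⋙ G) hT
    obtain ⟨b⟩ := nonempty_cokernel_zero_iso L hT
    obtain ⟨c⟩ := nonempty_map_cokernel_of_regular G (L.map T.g) h hh
    exact ⟨a.symm ≪≫ c.symm ≪≫ G.mapIso b⟩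
  | succ m ih =>
    intro F hF hz
    obtain ⟨T, hT, hI, rfl⟩ := exists_presentation F
    haveI : Injective (T.map L).X₁ := hF
    haveI : Injective (T.map L).X₂ := hL _ hI
    have hM := ((L.preservesFiniteLimits_tfae).out 3 0 rfl rfl).1 ‹_› T hT
    haveI : Mono (T.map L).f := hM.2
    obtain ⟨h, hh⟩ := exists_regular hM.1
    obtain ⟨b⟩ := nonempty_cokernel_zero_iso L hT
    haveI : Epi (L.map T.g) := Preadditive.epi_of_isZero_cokernel _ ((hz 1 le_rfl (by omega)).of_iso b)
    let h' : L.obj T.X₃ ⟶ L.obj T.X₂ := h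
    have hs : h' ≫ L.map T.g = 𝟙 (L.obj T.X₃) := by
      rw [← cancel_epi (L.map T.g), Category.comp_id]; exact hh
    haveI : Injective (L.obj T.X₂) := hL _ hI
    haveI : Injective (L.obj T.X₃) := (Retract.mk h' (L.map T.g) hs).injective
    obtain ⟨a⟩ := nonempty_succ_iso (L ⋙ G) hT m
    obtain ⟨c⟩ := ih T.X₃ inferInstance fun p hp hpm => by
      obtain ⟨q, rfl⟩ : ∃ q, p = q + 1 := ⟨p - 1, by omega⟩
      obtain ⟨e⟩ := nonempty_succ_iso L hT q
      exact (hz (q + 2) (by omega) (by omega)).of_iso e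
    obtain ⟨d⟩ := nonempty_succ_iso L hT m
    exact ⟨a.symm ≪≫ c ≪≫ G.mapIso d⟩

/-- if the lower derived functors of `L` vanish, the derived functor of the composite is computed by `G` -/
theorem nonempty_comp_iso (hL : ∀ I : C, Injective I → Injective (L.obj I)) (m : ℕ) (F : C)
    (h : ∀ p, p < m → IsZero ((L.rightDerived p).obj F)) :
    Nonempty (((L ⋙ G).rightDerived m).obj F ≅ G.obj ((L.rightDerived m).obj F)) := by
  haveI : PreservesFiniteLimits (L ⋙ G) := comp_preservesFiniteLimits _ _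
  cases m with
  | zero => exact ⟨(L ⋙ G).rightDerivedZeroIsoSelf.app F ≪≫ G.mapIso (L.rightDerivedZeroIsoSelf.app F).symm⟩
  | succ m =>
    have h0 : IsZero (L.obj F) := (h 0 (by omega)).of_iso (L.rightDerivedZeroIsoSelf.app F).symm
    exact nonempty_comp_iso_succ L G hL m F h0.injective fun p _ hp => h p (by omega)

theorem isZero_comp (hL : ∀ I : C, Injective I → Injective (L.obj I)) (m : ℕ) (F : C)
    (h : ∀ p, p ≤ m → IsZero ((L.rightDerived p).obj F)) : IsZero (((L ⋙ G).rightDerived m).obj F) := by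
  obtain ⟨e⟩ := nonempty_comp_iso L G hL m F fun p hp => h p hp.le
  exact (G.map_isZero (h m le_rfl)).of_iso e

end Comp

section Post

variable (S : C ⥤ D) [S.Additive] [PreservesFiniteLimits S] (G : D ⥤ E) [G.Additive] [PreservesFiniteLimits G]
  [PreservesFiniteColimits G]

/-- exact functors commute with right derived functors -/
theorem nonempty_postcomp_iso (n : ℕ) : ∀ F : C,
    Nonempty (((S ⋙ G).rightDerived n).obj F ≅ G.obj ((S.rightDerived n).obj F)) := by
  haveI : PreservesFiniteLimits (S ⋙ G) := comp_preservesFiniteLimits _ _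
  match n with
  | 0 => exact fun F => ⟨(S ⋙ G).rightDerivedZeroIsoSelf.app F ≪≫ G.mapIso (S.rightDerivedZeroIsoSelf.app F).symm⟩
  | 1 =>
    intro F
    obtain ⟨T, hT, hI, rfl⟩ := exists_presentation F
    obtain ⟨a⟩ := nonempty_cokernel_zero_iso (S ⋙ G) hT
    obtain ⟨b⟩ := nonempty_cokernel_zero_iso S hT
    exact ⟨a.symm ≪≫ (PreservesCokernel.iso G (S.map T.g)).symm ≪≫ G.mapIso b⟩
  | m + 2 =>
    intro F
    obtain ⟨T, hT, hI, rfl⟩ := exists_presentation F
    obtain ⟨a⟩ := nonempty_succ_iso (S ⋙ G) hT m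
    obtain ⟨b⟩ := nonempty_succ_iso S hT m
    obtain ⟨c⟩ := nonempty_postcomp_iso (m + 1) T.X₃
    exact ⟨a.symm ≪≫ c ≪≫ G.mapIso b⟩

end Post

section Pre

variable {B : Type u''} [Category.{v''} B] [Abelian B] [EnoughInjectives B] (Φ : B ⥤ C) [Φ.Additive]
  [PreservesFiniteLimits Φ] [PreservesFiniteColimits Φ] (S : C ⥤ D) [S.Additive] [PreservesFiniteLimits S]

/-- precomposition with an exact functor preserving injectives commutes with right derived functors -/
theorem nonempty_precomp_iso (hΦ : ∀ I : B, Injective I → Injective (Φ.obj I)) (n : ℕ) : ∀ F : B,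
    Nonempty (((Φ ⋙ S).rightDerived n).obj F ≅ (S.rightDerived n).obj (Φ.obj F)) := by
  haveI : PreservesFiniteLimits (Φ ⋙ S) := comp_preservesFiniteLimits _ _
  match n with
  | 0 => exact fun F => ⟨(Φ ⋙ S).rightDerivedZeroIsoSelf.app F ≪≫ (S.rightDerivedZeroIsoSelf.app (Φ.obj F)).symm⟩
  | 1 =>
    intro F
    obtain ⟨T, hT, hI, rfl⟩ := exists_presentation F
    haveI : Injective (T.map Φ).X₂ := hΦ _ hI
    obtain ⟨a⟩ := nonempty_cokernel_zero_iso (Φ ⋙ S) hT
    obtain ⟨b⟩ := nonempty_cokernel_zero_iso S (hT.map_of_exact Φ)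
    exact ⟨a.symm ≪≫ b⟩
  | m + 2 =>
    intro F
    obtain ⟨T, hT, hI, rfl⟩ := exists_presentation F
    haveI : Injective (T.map Φ).X₂ := hΦ _ hI
    obtain ⟨a⟩ := nonempty_succ_iso (Φ ⋙ S) hT m
    obtain ⟨b⟩ := nonempty_succ_iso S (hT.map_of_exact Φ) m
    obtain ⟨c⟩ := nonempty_precomp_iso hΦ (m + 1) T.X₃
    exact ⟨a.symm ≪≫ c ≪≫ b⟩

end Pre

section Extension

variable {A B K : C ⥤ AddCommGrpCat.{w}} [A.Additive] [B.Additive] [K.Additive]
  [PreservesFiniteLimits A] [PreservesFiniteLimits B] [PreservesFiniteLimits K]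
  (ι : K ⟶ A) (α : A ⟶ B)
  (hex : ∀ F (a : A.obj F), α.app F a = 0 ↔ ∃ z, ι.app F z = a)
  (hα : ∀ I : C, Injective I → Function.Surjective (α.app I))

omit [EnoughInjectives C] in
theorem exact_map {S : C ⥤ AddCommGrpCat.{w}} [S.Additive] [PreservesFiniteLimits S] {T : ShortComplex C}
    (hT : T.ShortExact) : Function.Injective (S.map T.f) ∧ ∀ x, S.map T.g x = 0 → ∃ y, S.map T.f y = x := by
  have h := ((S.preservesFiniteLimits_tfae).out 3 0 rfl rfl).1 ‹_› T hT
  exact ⟨(AddCommGrpCat.mono_iff_injective _).1 h.2, (ShortComplex.ab_exact_iff _).1 h.1⟩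

include hex hα

theorem surjective_app {F : C} (h : IsZero ((K.rightDerived 1).obj F)) : Function.Surjective (α.app F) := by
  intro e
  obtain ⟨T, hT, hI, rfl⟩ := exists_presentation F
  obtain ⟨b⟩ := nonempty_cokernel_zero_iso K hT
  haveI : Epi (K.map T.g) := Preadditive.epi_of_isZero_cokernel _ (h.of_iso b)
  obtain ⟨a, ha⟩ := hα T.X₂ hI (B.map T.f e)
  have h1 : α.app T.X₃ (A.map T.g a) = 0 := by
    rw [NatTrans.naturality_apply α T.g a, ha, ← ConcreteCategory.comp_apply, ← B.map_comp, T.zero, B.map_zero]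
    rfl
  obtain ⟨z, hz⟩ := (hex _ _).1 h1
  obtain ⟨y, hy⟩ := (AddCommGrpCat.epi_iff_surjective (K.map T.g)).1 inferInstance z
  have h2 : A.map T.g (a - ι.app T.X₂ y) = 0 := by
    rw [map_sub, ← NatTrans.naturality_apply ι T.g y, hy, hz, sub_self]
  obtain ⟨x, hx⟩ := (exact_map (S := A) hT).2 _ h2
  refine ⟨x, (exact_map (S := B) hT).1 ?_⟩
  rw [← NatTrans.naturality_apply α T.f x, hx, map_sub, (hex _ (ι.app T.X₂ y)).2 ⟨y, rfl⟩, sub_zero, ha]

/-- the middle term of an extension of functors -/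
theorem nonempty_rightDerived_iso_of_isZero (m : ℕ) : ∀ F : C, IsZero ((K.rightDerived m).obj F) →
    IsZero ((K.rightDerived (m + 1)).obj F) →
    Nonempty ((A.rightDerived m).obj F ≅ (B.rightDerived m).obj F) := by
  match m with
  | 0 =>
    intro F h0 h1
    have hb : Function.Bijective (α.app F) := by
      refine ⟨(injective_iff_map_eq_zero _).2 fun a ha => ?_, surjective_app ι α hex hα h1⟩
      obtain ⟨z, rfl⟩ := (hex _ _).1 ha
      haveI : Subsingleton (K.obj F) :=
        AddCommGrpCat.subsingleton_of_isZero (h0.of_iso (K.rightDerivedZeroIsoSelf.app F).symm)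
      rw [Subsingleton.elim z 0, map_zero]
    haveI : IsIso (α.app F) := (ConcreteCategory.isIso_iff_bijective _).2 hb
    exact ⟨A.rightDerivedZeroIsoSelf.app F ≪≫ asIso (α.app F) ≪≫ (B.rightDerivedZeroIsoSelf.app F).symm⟩
  | 1 =>
    intro F h1 h2
    obtain ⟨T, hT, hI, rfl⟩ := exists_presentation F
    obtain ⟨a⟩ := nonempty_cokernel_zero_iso A hT
    obtain ⟨b⟩ := nonempty_cokernel_zero_iso B hT
    obtain ⟨k⟩ := nonempty_cokernel_zero_iso K hT
    obtain ⟨k'⟩ := nonempty_succ_iso K hT 0
    haveI : Epi (K.map T.g) := Preadditive.epi_of_isZero_cokernel _ (h1.of_iso k)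
    let c := cokernel.map (A.map T.g) (B.map T.g) (α.app T.X₂) (α.app T.X₃) (α.naturality T.g)
    have hc : Function.Bijective c := by
      constructor
      · refine (injective_iff_map_eq_zero _).2 fun x hx => ?_
        obtain ⟨y, rfl⟩ := (AddCommGrpCat.epi_iff_surjective (cokernel.π (A.map T.g))).1 inferInstance x
        have hx' : cokernel.π (B.map T.g) (α.app T.X₃ y) = 0 :=
          (ConcreteCategory.congr_hom (cokernel.π_desc (A.map T.g) _ _) y).symm.trans hx
        obtain ⟨w, hw⟩ := (ShortComplex.ab_exact_iff _).1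
          (ShortComplex.exact_of_g_is_cokernel (ShortComplex.mk _ _ (cokernel.condition (B.map T.g)))
            (cokernelIsCokernel _)) _ hx'
        obtain ⟨v, rfl⟩ := hα _ hI w
        have h3 : α.app T.X₃ (y - A.map T.g v) = 0 := by
          rw [map_sub, NatTrans.naturality_apply α T.g v, sub_eq_zero]; exact hw.symm
        obtain ⟨z, hz⟩ := (hex _ _).1 h3
        obtain ⟨q, rfl⟩ := (AddCommGrpCat.epi_iff_surjective (K.map T.g)).1 inferInstance z
        have hy : y = A.map T.g (ι.app T.X₂ q + v) := by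
          rw [map_add, ← NatTrans.naturality_apply ι T.g q, hz, sub_add_cancel]
        rw [hy, ← ConcreteCategory.comp_apply, cokernel.condition]
        rfl
      · intro x
        obtain ⟨y, rfl⟩ := (AddCommGrpCat.epi_iff_surjective (cokernel.π (B.map T.g))).1 inferInstance x
        obtain ⟨v, rfl⟩ := surjective_app ι α hex hα (h2.of_iso k') y
        exact ⟨cokernel.π (A.map T.g) v, ConcreteCategory.congr_hom (cokernel.π_desc (A.map T.g) _ _) v⟩
    haveI : IsIso c := (ConcreteCategory.isIso_iff_bijective _).2 hc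
    exact ⟨a.symm ≪≫ asIso c ≪≫ b⟩
  | m + 2 =>
    intro F h1 h2
    obtain ⟨T, hT, hI, rfl⟩ := exists_presentation F
    obtain ⟨a⟩ := nonempty_succ_iso A hT m
    obtain ⟨b⟩ := nonempty_succ_iso B hT m
    obtain ⟨k⟩ := nonempty_succ_iso K hT m
    obtain ⟨k'⟩ := nonempty_succ_iso K hT (m + 1)
    obtain ⟨c⟩ := nonempty_rightDerived_iso_of_isZero (m + 1) T.X₃ (h1.of_iso k) (h2.of_iso k')
    exact ⟨a.symm ≪≫ c ≪≫ b⟩

end Extension

end Groth.L28.Supp
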