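import Groth.Agent.L28.Supp.Spec
import Groth.Agent.L28.ExtShriek.Compact
import Groth.Agent.L27.Supp.Restrict
import Groth.Agent.L27.ExtZero.Restr
import Groth.Agent.L27.ExtZero.Recollement
import Mathlib.AlgebraicGeometry.Morphisms.FinitePresentation
import Mathlib.AlgebraicGeometry.Fiber

/-!
Torsion sheaves vanishing at the generic point are colimits of constructible sheaves supported away from it.
-/

set_option autoImplicit false
set_option linter.style.haveILetI false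

universe u

open CategoryTheory CategoryTheory.Limits AlgebraicGeometry Opposite Topology TopologicalSpace

set_option backward.isDefEq.respectTransparency.types false

namespace Groth.L28.Supp

variable {X : Scheme.{u}}

open Groth.L27.Supp (ZeroAt)

theorem zeroAt_of_stalk_zero (F : EtCoh.Ab X) (x : X) (hx : x ∉ EtPBC.supp F) (V : X.Etale) (t : F.obj.obj (op V))
    (v : V.left) (hv : V.hom.base v = x) : ZeroAt F t v := by
  obtain ⟨Ω, _, _, ξ, hξ⟩ := Groth.L27.EtSite.exists_geometric_point x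
  haveI : Subsingleton ((EtCoh.stalk ξ).obj F) := isZero_iff_subsingleton.1
    (by_contra fun h => hx ⟨Ω, inferInstance, inferInstance, ξ, Spz.range_eq_singleton ξ hξ, h⟩)
  let Φ := Scheme.pointSmallEtale ξ
  obtain ⟨y, hy⟩ := Groth.L27.EtSite.exists_fiber ξ V v (hv.trans hξ.symm)
  obtain ⟨W, g, y', hy', he⟩ := (Φ.toPresheafFiber_eq_iff' (P := F.obj) V y t 0).1
    (@Subsingleton.elim ((EtCoh.stalk ξ).obj F) _ _ _)
  let w : Spec (CommRingCat.of Ω) ⟶ W.left := y'.left
  refine ⟨W, g, w default, ?_, he.trans (map_zero _)⟩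
  rw [← hy, ← hy']
  exact (Scheme.Hom.comp_apply _ _ _).symm

theorem isOpen_zeroAt (F : EtCoh.Ab X) (V : X.Etale) (t : F.obj.obj (op V)) : IsOpen {v | ZeroAt F t v} := by
  refine isOpen_iff_forall_mem_open.2 fun v ⟨W, g, w, hw, he⟩ =>
    ⟨Set.range g.left, ?_, ?_, ⟨w, hw⟩⟩
  · rintro _ ⟨w', rfl⟩
    exact ⟨W, g, w', rfl, he⟩
  · haveI := Groth.L27.EtSite.etale_left g
    exact g.left.isOpenMap.isOpen_range

theorem exists_open_zeroAt [CompactSpace X] [QuasiSeparatedSpace X] (F : EtCoh.Ab X) {x : X}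
    (hmax : ∀ a, a ⤳ x → a = x) (hx : x ∉ EtPBC.supp F) (V : X.Etale) [IsAffine V.left] (t : F.obj.obj (op V)) :
    ∃ U : X.Opens, x ∈ U ∧ ∀ v : V.left, V.hom.base v ∈ U → ZeroAt F t v := by
  let h : V.left ⟶ X := V.hom
  haveI : AlgebraicGeometry.Etale h := V.prop
  haveI : QuasiCompact h :=
    haveI : CompactSpace V.left := inferInstance
    quasiCompact_of_compactSpace h
  haveI : CompactSpace ↥(h.fiber x) := QuasiCompact.compactSpace_of_compactSpace (h.fiberToSpecResidueField x)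
  have hcpt : IsCompact (h ⁻¹' {x}) := by
    rw [← Scheme.Hom.range_fiberι]
    exact isCompact_range (h.fiberι x).continuous
  have hex : ∀ v : h ⁻¹' {x}, ∃ O : V.left.Opens, IsAffineOpen O ∧ (v : V.left) ∈ O ∧ (O : Set V.left) ⊆ {v | ZeroAt F t v} := by
    rintro ⟨v, hv⟩
    obtain ⟨_, ⟨O, hO, rfl⟩, hvO, hsub⟩ := V.left.isBasis_affineOpens.exists_subset_of_mem_open
      (show v ∈ {v | ZeroAt F t v} from zeroAt_of_stalk_zero F x hx V t v hv) (isOpen_zeroAt F V t)
    exact ⟨O, hO, hvO, hsub⟩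
  choose O hO hvO hsub using hex
  obtain ⟨S, hS⟩ := hcpt.elim_finite_subcover (fun v => (O v : Set V.left)) (fun v => (O v).2)
    fun v hv => Set.mem_iUnion.2 ⟨⟨v, hv⟩, hvO ⟨v, hv⟩⟩
  let C : Set V.left := (⋃ v ∈ S, (O v : Set V.left))ᶜ
  have hC : IsConstructible C :=
    ((S.isCompact_biUnion fun v _ => (hO v).isCompact) |>.isConstructible
      (isOpen_biUnion fun v _ => (O v).2)).compl
  obtain ⟨U, hxU, hU⟩ := Spz.exists_open_subset (h.isConstructible_image hC).compl (q := x) fun a ha => by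
    rintro ⟨c, hc, hca⟩
    exact hc (hS (show c ∈ h ⁻¹' {x} from hca.trans (hmax a ha)))
  refine ⟨U, hxU, fun v hv => ?_⟩
  by_contra hcon
  refine hU hv ⟨v, fun hmem => hcon ?_, rfl⟩
  obtain ⟨w, -, hw⟩ := Set.mem_iUnion₂.1 hmem
  exact hsub w hw

theorem eq_zero_of_hom_atom {U : Scheme.{u}} (j : U ⟶ X) [IsOpenImmersion j] [AlgebraicGeometry.Etale j]
    [EtShriek.JCont j] {F : EtCoh.Ab X} (V : X.Etale) (n : ℕ) (ψ : EtPBC.extZeroConst V (ZMod n) ⟶ F)
    (h : ∀ v : V.left, V.hom.base v ∈ Set.range j → ZeroAt F (ψ.hom.app (op V) (ExtShriek.gen V n)) v) :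
    ψ ≫ (L27.ExtZero.restrAdj j).unit.app F = 0 := by
  refine ExtShriek.ext_gen ?_
  let W := (EtShriek.compEtale j).obj ((EtCoh.bc j).obj V)
  let ε : W ⟶ V := L27.ExtZero.epsE j V
  show F.obj.map ε.op (ψ.hom.app (op V) (ExtShriek.gen V n)) = (0 : F.obj.obj (op W))
  refine L27.Supp.eq_of_locally F _ _ fun w => ?_
  let e : W.left ⟶ V.left := ε.left
  have hw : V.hom.base (e w) ∈ Set.range j := by
    refine ⟨((EtCoh.bc j).obj V).hom w, ?_⟩
    rw [← Scheme.Hom.comp_apply, ← Scheme.Hom.comp_apply]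
    exact congrArg (fun m => m w) (MorphismProperty.Over.w ε).symm
  obtain ⟨W', g', w', hw', he'⟩ := L27.Supp.ZeroAt.map F ε (h (e w) hw)
  exact ⟨W', g', w', hw', he'.trans (map_zero _).symm⟩

theorem exists_presOver_away [CompactSpace X] [QuasiSeparatedSpace X] {F : EtCoh.Ab X} {x : X}
    (hmax : ∀ a, a ⤳ x → a = x) (hx : x ∉ EtPBC.supp F) (P : ExtShriek.PresOver F) :
    ∃ k : ExtShriek.PresOver F,
      (∃ Z : Set X, IsClosed Z ∧ x ∉ Z ∧ EtPBC.supp ((ExtShriek.presDiag F).obj k) ⊆ Z) ∧ Nonempty (P ⟶ k) := by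
  obtain ⟨P, q⟩ := P
  let π : (⨁ fun i => EtPBC.extZeroConst (P.U i) (ZMod (P.n i))) ⟶ P.obj := cokernel.π P.φ
  have hex : ∀ i, ∃ U : X.Opens, x ∈ U ∧ ∀ v : (P.U i).left, (P.U i).hom.base v ∈ U →
      ZeroAt F ((biproduct.ι _ i ≫ π ≫ q).hom.app (op (P.U i)) (ExtShriek.gen (P.U i) (P.n i))) v := fun i => by
    haveI := (P.hU i).2
    exact exists_open_zeroAt F hmax hx (P.U i) _
  choose U hxU hU using hex
  obtain ⟨_, ⟨(W : X.Opens), hW, rfl⟩, hxW, hWU⟩ := X.isBasis_affineOpens.exists_subset_of_mem_open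
    (show x ∈ ⋂ i, (U i : Set X) from Set.mem_iInter.2 hxU) (isOpen_iInter_of_finite fun i => (U i).2)
  haveI : IsAffine W.toScheme := hW
  haveI := Groth.L27.ExtZero.jCont W.ι
  haveI : QuasiCompact W.ι := quasiCompact_of_compactSpace W.ι
  let adjR := L27.ExtZero.restrAdj W.ι
  let adj := EtShriek.extZeroAdj W.ι
  have hG := P.isConstructible_obj
  have h0 : (EtShriek.restrAlong W.ι).map q = 0 := by
    have h1 : q ≫ adjR.unit.app F = 0 := by
      haveI : Epi π := inferInstanceAs (Epi (cokernel.π P.φ))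
      refine (cancel_epi π).1 (biproduct.hom_ext' _ _ fun i => ?_)
      rw [comp_zero, comp_zero]
      refine ((Category.assoc (biproduct.ι _ i) π _).symm.trans ((Category.assoc _ q _).symm.trans
        (congrArg (· ≫ adjR.unit.app F) (Category.assoc _ π q)))).trans ?_
      refine eq_zero_of_hom_atom W.ι (P.U i) (P.n i) _ fun v hv => hU i v ?_
      rw [Scheme.Opens.range_ι] at hv
      exact Set.mem_iInter.1 (hWU hv) i
    refine (adjR.homEquiv _ _).injective ?_
    rw [adjR.homEquiv_unit, adjR.homEquiv_unit, Functor.map_zero, comp_zero]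
    exact (adjR.unit.naturality q).symm.trans h1
  have h2 : adj.counit.app P.obj ≫ q = 0 := by
    refine (adj.counit.naturality q).symm.trans ?_
    show (EtShriek.extZero W.ι).map ((EtShriek.restrAlong W.ι).map q) ≫ adj.counit.app F = 0
    rw [h0, Functor.map_zero, zero_comp]
  let Q := cokernel (adj.counit.app P.obj)
  have hQ : EtPBC.IsConstructible Q :=
    (Strata.isConstructible_kernel_cokernel _ (ExtShriek.isConstructible_extZero' W.ι (ExtShriek.isConstructible_of_iso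
      ((L27.ExtZero.pullRestr W.ι).app P.obj) (ExtShriek.isConstructible_pull W.ι hG))) hG).2
  obtain ⟨k, e, he⟩ := ExtShriek.exists_presOver hQ (cokernel.desc _ q h2)
  refine ⟨k, ⟨(W : Set X)ᶜ, W.2.isClosed_compl, fun h => h hxW, fun y hy hyW => ?_⟩,
    ⟨InducedCategory.homMk (Over.homMk (cokernel.π _ ≫ e.hom)
      ((Category.assoc _ _ _).trans ((congrArg (cokernel.π _ ≫ ·) he).trans (cokernel.π_desc _ _ _))))⟩⟩
  obtain ⟨Ω, _, _, ξ, hr, hz⟩ := supp_subset_of_mono e.inv hy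
  haveI := L27.ExtZero.isIso_stalk_counit_inside W.ι P.obj ξ
    (by rw [Scheme.Opens.range_ι, show ξ.base default = y from Spz.default_eq_of_range hr]; exact hyW)
  haveI : PreservesColimitsOfSize.{0, 0} (EtCoh.stalk ξ) :=
    ((Scheme.pointSmallEtale ξ).skyscraperSheafAdjunction).leftAdjoint_preservesColimits
  exact hz (IsZero.of_iso (isZero_cokernel_of_epi ((EtCoh.stalk ξ).map (adj.counit.app P.obj)))
    (PreservesCokernel.iso (EtCoh.stalk ξ) _))

theorem exists_colimit_away [CompactSpace X] [QuasiSeparatedSpace X] {F : EtCoh.Ab X} (hF : EtCoh.IsTorsion F)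
    {x : X} (hmax : ∀ a, a ⤳ x → a = x) (hx : x ∉ EtPBC.supp F) :
    ∃ (J : Type (u + 1)) (_ : SmallCategory J) (_ : IsFiltered J) (D : J ⥤ EtCoh.Ab X)
      (c : Cocone D) (_ : IsColimit c), Nonempty (c.pt ≅ F) ∧
      ∀ j, EtPBC.IsConstructible (D.obj j) ∧
        ∃ Z : Set X, IsClosed Z ∧ x ∉ Z ∧ EtPBC.supp (D.obj j) ⊆ Z := by
  let P : ObjectProperty (ExtShriek.PresOver F) := fun k =>
    ∃ Z : Set X, IsClosed Z ∧ x ∉ Z ∧ EtPBC.supp ((ExtShriek.presDiag F).obj k) ⊆ Z
  have h : ∀ d, ∃ c, Nonempty (d ⟶ P.ι.obj c) := fun d =>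
    let ⟨k, hk, hdk⟩ := exists_presOver_away hmax hx d; ⟨⟨k, hk⟩, hdk⟩
  haveI : Nonempty P.FullSubcategory := ⟨(h (Classical.choice IsFiltered.nonempty)).choose⟩
  haveI := IsFilteredOrEmpty.of_exists_of_isFiltered_of_fullyFaithful P.ι h
  haveI : IsFiltered P.FullSubcategory := {}
  haveI := Functor.final_of_exists_of_isFiltered_of_fullyFaithful P.ι h
  obtain ⟨hc⟩ := ExtShriek.isColimit_presCocone (F := F) hF
  exact ⟨P.FullSubcategory, inferInstance, inferInstance, P.ι ⋙ ExtShriek.presDiag F, _,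
    (Functor.Final.isColimitWhiskerEquiv P.ι _).symm hc, ⟨Iso.refl _⟩,
    fun j => ⟨j.obj.1.isConstructible_obj, j.property⟩⟩

end Groth.L28.Supp
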