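import Groth.Agent.L28.Supp.DerComp
import Groth.Agent.L28.LocCoh.Snake
import Groth.Agent.L27.InjPush.Support
import Groth.Agent.L28.ExtShriek.Local
import Groth.Prelude.Def_EtDual

/-!
Sections with supports: left exactness, injectives, sections, and restriction to etale schemes.
-/

set_option autoImplicit false
set_option linter.style.haveILetI false
set_option linter.unusedSectionVars false
set_option linter.unusedVariables false
set_option backward.isDefEq.respectTransparency.types false

universe u

open CategoryTheory CategoryTheory.Limits AlgebraicGeometry Opposite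
open Groth.L27.ExtZero (epsE pullRestr unit_pullRestr restrAdj)

namespace Groth.L28.Supp

variable {X U : Scheme.{u}} (j : U ⟶ X) [EtCoh.BCCont j]

instance preservesFiniteLimits_secSupp : PreservesFiniteLimits (EtDual.secSupp j) := by
  haveI := Groth.L27.EtSite.preservesFiniteLimits_pull j
  haveI : PreservesLimitsOfSize.{0, 0} (EtCoh.push j) := (EtCoh.pullPushAdj j).rightAdjoint_preservesLimits
  haveI : PreservesFiniteLimits (EtCoh.push j) := PreservesLimitsOfSize.preservesFiniteLimits _
  haveI : PreservesFiniteLimits (EtCoh.pull j ⋙ EtCoh.push j) := comp_preservesFiniteLimits _ _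
  haveI : (EtCoh.pull j).Additive := Functor.additive_of_preserves_binary_products _
  exact ((EtDual.secSupp j).preservesFiniteLimits_tfae.out 0 3 rfl rfl).1
    fun T hT => ⟨Groth.L28.LocCoh.exact_kerComplex (M := EtCoh.pull j ⋙ EtCoh.push j) (EtCoh.pullPushAdj j).unit T hT,
      Groth.L28.LocCoh.mono_kerComplex (M := EtCoh.pull j ⋙ EtCoh.push j) (EtCoh.pullPushAdj j).unit T hT⟩

/-- sections over `W` -/
noncomputable abbrev secAt (W : X.Etale) : EtCoh.Ab X ⥤ AddCommGrpCat.{u + 1} :=
  sheafToPresheaf X.smallEtaleTopology AddCommGrpCat.{u + 1} ⋙ (evaluation X.Etaleᵒᵖ AddCommGrpCat.{u + 1}).obj (op W)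

instance preservesFiniteLimits_secAt (W : X.Etale) : PreservesFiniteLimits (secAt W) :=
  comp_preservesFiniteLimits _ _

/-- the inclusion of sections with supports -/
noncomputable def secι : EtDual.secSupp j ⟶ 𝟭 (EtCoh.Ab X) where
  app F := kernel.ι (EtDual.unitApp j F)
  naturality F G f := kernel.lift_ι _ _ _

variable [IsOpenImmersion j]

theorem injective_secι (F : EtCoh.Ab X) (W : X.Etale) : Function.Injective ((secAt W).map ((secι j).app F)) :=
  haveI : Mono ((secι j).app F) := inferInstanceAs (Mono (kernel.ι _))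
  (AddCommGrpCat.mono_iff_injective _).1 inferInstance

theorem exists_secι_iff [EtShriek.JCont j] (F : EtCoh.Ab X) (W : X.Etale) (s : F.obj.obj (op W)) :
    (∃ t, (secAt W).map ((secι j).app F) t = s) ↔ F.obj.map (epsE j W).op s = 0 := by
  let T : ShortComplex (EtCoh.Ab X) := ShortComplex.mk (kernel.ι (EtDual.unitApp j F)) _ (kernel.condition _)
  have hT : T.Exact := ShortComplex.exact_of_f_is_kernel T (kernelIsKernel _)
  haveI : Mono T.f := inferInstanceAs (Mono (kernel.ι _))
  have h : (T.map (secAt W)).Exact :=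
    ((secAt W).preservesFiniteLimits_tfae.out 3 1 rfl rfl).1 inferInstance T ⟨hT, inferInstance⟩ |>.1
  have h' : (∃ t, (secAt W).map T.f t = s) ↔ (secAt W).map (EtDual.unitApp j F) s = 0 :=
    ⟨fun ⟨t, ht⟩ => ht ▸ ShortComplex.ab_zero_apply (T.map (secAt W)) t, fun hs => (ShortComplex.ab_exact_iff _).1 h s hs⟩
  refine h'.trans ?_
  have e := ConcreteCategory.congr_hom (congrArg (secAt W).map (unit_pullRestr j F)) s
  rw [Functor.map_comp, ConcreteCategory.comp_apply] at e
  refine Iff.trans ?_ (Eq.congr_left e)
  exact (map_eq_zero_iff _ (((AddCommGrpCat.mono_iff_injective _).1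
    (inferInstanceAs (Mono ((secAt W).map ((EtCoh.push j).map ((pullRestr j).hom.app F)))))))).symm

theorem injective_secSupp_obj (I : EtCoh.Ab X) [Injective I] : Injective ((EtDual.secSupp j).obj I) := by
  haveI := Groth.L27.ExtZero.jCont j
  let Zc : TopologicalSpace.Closeds X := ⟨(Set.range j)ᶜ, j.isOpenEmbedding.isOpen_range.isClosed_compl⟩
  let i := (Scheme.IdealSheafData.vanishingIdeal Zc).subschemeι
  have hij : Set.range j.base = (Set.range i.base)ᶜ := by
    show Set.range j = (Set.range i)ᶜ
    rw [Scheme.IdealSheafData.range_subschemeι, Scheme.IdealSheafData.coe_support_vanishingIdeal]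
    exact (compl_compl _).symm
  haveI := Groth.L27.InjPush.isIso_unit_kernel j i hij I
  haveI := Groth.L27.InjPush.injective_pull_kernel j i hij I
  exact Injective.of_iso (asIso ((EtCoh.pullPushAdj i).unit.app (kernel ((EtCoh.pullPushAdj j).unit.app I)))).symm
    (Groth.L27.InjPush.injective_push i _)

section Restr

variable {V UV : Scheme.{u}} (v : V ⟶ X) [AlgebraicGeometry.Etale v] (jV : UV ⟶ V) [EtCoh.BCCont jV]
  [IsOpenImmersion jV] (v' : UV ⟶ U) (h : IsPullback v' jV j v) [EtShriek.JCont v]

include h in
theorem map_eps_eq_zero_iff [EtShriek.JCont j] [EtShriek.JCont jV] (F : EtCoh.Ab X) (W : V.Etale)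
    (s : F.obj.obj (op ((EtShriek.compEtale v).obj W))) :
    F.obj.map (epsE j ((EtShriek.compEtale v).obj W)).op s = 0 ↔
      ((EtShriek.restrAlong v).obj F).obj.map (epsE jV W).op s = 0 := by
  let A := (EtShriek.compEtale j).obj ((EtCoh.bc j).obj ((EtShriek.compEtale v).obj W))
  let B := (EtShriek.compEtale v).obj ((EtShriek.compEtale jV).obj ((EtCoh.bc jV).obj W))
  have hA : pullback.snd (W.hom ≫ v) j ≫ j = (pullback.fst (W.hom ≫ v) j ≫ W.hom) ≫ v := by
    rw [Category.assoc]; exact pullback.condition.symm
  let a : A ⟶ B := MorphismProperty.Over.homMk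
    (pullback.lift (pullback.fst (W.hom ≫ v) j) (h.lift (pullback.snd (W.hom ≫ v) j) (pullback.fst (W.hom ≫ v) j ≫ W.hom) hA)
      (h.lift_snd _ _ _).symm) (by
      show pullback.lift _ _ _ ≫ (pullback.snd W.hom jV ≫ jV) ≫ v = pullback.snd (W.hom ≫ v) j ≫ j
      exact (congrArg (_ ≫ ·) (Category.assoc _ _ _)).trans ((pullback.lift_snd_assoc _ _ _ _).trans
        (((Category.assoc _ _ _).symm.trans (congrArg (· ≫ v) (h.lift_snd _ _ _))).trans hA.symm)))
  let b : B ⟶ A := MorphismProperty.Over.homMk
    (pullback.lift (pullback.fst W.hom jV) (pullback.snd W.hom jV ≫ v')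
      (show pullback.fst W.hom jV ≫ (W.hom ≫ v) = _ from (Category.assoc _ _ _).symm.trans ((congrArg (· ≫ v) pullback.condition).trans
        ((Category.assoc _ _ _).trans ((congrArg (_ ≫ ·) h.w.symm).trans (Category.assoc _ _ _).symm))))) (by
      show pullback.lift _ _ _ ≫ pullback.snd (W.hom ≫ v) j ≫ j = (pullback.snd W.hom jV ≫ jV) ≫ v
      exact (pullback.lift_snd_assoc _ _ _ _).trans ((Category.assoc _ _ _).trans
        ((congrArg (_ ≫ ·) h.w).trans (Category.assoc _ _ _).symm)))
  have ha : a ≫ (EtShriek.compEtale v).map (epsE jV W) = epsE j ((EtShriek.compEtale v).obj W) :=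
    MorphismProperty.Over.Hom.ext (pullback.lift_fst _ _ _)
  have hb : b ≫ epsE j ((EtShriek.compEtale v).obj W) = (EtShriek.compEtale v).map (epsE jV W) :=
    MorphismProperty.Over.Hom.ext (pullback.lift_fst _ _ _)
  show F.obj.map (epsE j ((EtShriek.compEtale v).obj W)).op s = 0 ↔
    F.obj.map ((EtShriek.compEtale v).map (epsE jV W)).op s = 0
  constructor
  · intro hs; rw [← hb, op_comp, Functor.map_comp_apply, hs, map_zero]
  · intro hs; rw [← ha, op_comp, Functor.map_comp_apply, hs, map_zero]

/-- the comparison of sections with supports under restriction -/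
noncomputable def restrApp (F : EtCoh.Ab X)
    (hF : (EtShriek.restrAlong v).map ((secι j).app F) ≫ EtDual.unitApp jV ((EtShriek.restrAlong v).obj F) = 0) :
    (EtShriek.restrAlong v).obj ((EtDual.secSupp j).obj F) ⟶
      (EtDual.secSupp jV).obj ((EtShriek.restrAlong v).obj F) :=
  kernel.lift _ ((EtShriek.restrAlong v).map ((secι j).app F)) hF

include h in
theorem restr_condition (F : EtCoh.Ab X) :
    (EtShriek.restrAlong v).map ((secι j).app F) ≫ EtDual.unitApp jV ((EtShriek.restrAlong v).obj F) = 0 := by
  haveI := Groth.L27.ExtZero.jCont j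
  haveI := Groth.L27.ExtZero.jCont jV
  refine ObjectProperty.hom_ext _ (NatTrans.ext (funext fun W => ConcreteCategory.hom_ext _ _ fun t => ?_))
  obtain ⟨t', ht'⟩ := (exists_secι_iff jV _ W.unop _).2 ((map_eps_eq_zero_iff j v jV v' h F W.unop _).1
    ((exists_secι_iff j F _ _).1 ⟨t, rfl⟩))
  show (EtDual.unitApp jV ((EtShriek.restrAlong v).obj F)).hom.app W _ = 0
  refine (congrArg _ ht'.symm).trans ?_
  exact ConcreteCategory.congr_hom (congrArg (fun k => k.hom.app W)
    (kernel.condition (EtDual.unitApp jV ((EtShriek.restrAlong v).obj F)))) t'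

/-- sections with supports commute with restriction to an etale scheme -/
noncomputable def restrIso : EtDual.secSupp j ⋙ EtShriek.restrAlong v ≅ EtShriek.restrAlong v ⋙ EtDual.secSupp jV :=
  haveI : ∀ F, IsIso (restrApp j v jV F (restr_condition j v jV v' h F)) := fun F => by
    haveI := Groth.L27.ExtZero.jCont j
    haveI := Groth.L27.ExtZero.jCont jV
    haveI : IsIso ((sheafToPresheaf _ _).map (restrApp j v jV F (restr_condition j v jV v' h F))) := by
      haveI : ∀ W, IsIso (((sheafToPresheaf _ _).map (restrApp j v jV F (restr_condition j v jV v' h F))).app W) := fun W => by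
        refine (ConcreteCategory.isIso_iff_bijective _).2 ?_
        have e : ∀ t, (secAt W.unop).map ((secι jV).app _) ((secAt W.unop).map (restrApp j v jV F (restr_condition j v jV v' h F)) t) =
            (secAt ((EtShriek.compEtale v).obj W.unop)).map ((secι j).app F) t := fun t =>
          (ConcreteCategory.comp_apply _ _ _).symm.trans (ConcreteCategory.congr_hom
            (((secAt W.unop).map_comp _ _).symm.trans (congrArg (secAt W.unop).map (kernel.lift_ι _ _ _))) t)
        refine ⟨fun a b hab => injective_secι j F _ ((e a).symm.trans ((congrArg _ hab).trans (e b))), fun t => ?_⟩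
        obtain ⟨t₀, ht₀⟩ := (exists_secι_iff j F _ _).2 ((map_eps_eq_zero_iff j v jV v' h F W.unop _).2
          ((exists_secι_iff jV ((EtShriek.restrAlong v).obj F) W.unop _).1 ⟨t, rfl⟩))
        exact ⟨t₀, injective_secι jV _ _ ((e t₀).trans ht₀)⟩
      exact NatIso.isIso_of_isIso_app _
    exact isIso_of_reflects_iso _ (sheafToPresheaf _ _)
  NatIso.ofComponents (fun F => asIso (restrApp j v jV F (restr_condition j v jV v' h F))) fun {F G} φ => by
    haveI : Mono ((secι jV).app ((EtShriek.restrAlong v).obj G)) := inferInstanceAs (Mono (kernel.ι _))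
    rw [← cancel_mono ((secι jV).app ((EtShriek.restrAlong v).obj G))]
    simp only [Functor.comp_map, asIso_hom, Category.assoc]
    refine (congrArg ((EtShriek.restrAlong v).map ((EtDual.secSupp j).map φ) ≫ ·) (kernel.lift_ι _ _ _)).trans ?_
    refine Eq.trans ?_ (congrArg (restrApp j v jV F _ ≫ ·) ((secι jV).naturality ((EtShriek.restrAlong v).map φ)).symm)
    rw [← Category.assoc, Functor.id_map]
    refine Eq.trans ?_ (congrArg (· ≫ (EtShriek.restrAlong v).map φ) (kernel.lift_ι _ _ _)).symm
    rw [← Functor.map_comp, ← Functor.map_comp, (secι j).naturality φ]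
    rfl

end Restr

end Groth.L28.Supp
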