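import Groth.Agent.L28.ExtShriek.NoethObj
import Groth.Agent.L28.Spz.Card
import Mathlib.CategoryTheory.Filtered.Final

/-!
Torsion sheaves supported in a set stable under specialization.
-/

set_option autoImplicit false
set_option linter.style.haveILetI false

universe u

open CategoryTheory CategoryTheory.Limits AlgebraicGeometry Opposite Topology

set_option backward.isDefEq.respectTransparency.types false

namespace Groth.L28.Supp

variable {X : Scheme.{u}}

theorem isZero_iff_subsingleton {A : AddCommGrpCat.{u + 1}} : IsZero A ↔ Subsingleton A :=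
  ⟨fun h => AddCommGrpCat.subsingleton_of_isZero h, fun _ => AddCommGrpCat.isZero_of_subsingleton _⟩

theorem supp_eq_compl (G : EtCoh.Ab X) :
    EtPBC.supp G = {x | ∀ (Ω : Type u) [Field Ω] [IsSepClosed Ω] (ξ : Spec (CommRingCat.of Ω) ⟶ X),
      ξ.base default = x → Subsingleton ((EtCoh.stalk ξ).obj G)}ᶜ := by
  ext x
  constructor
  · rintro ⟨Ω, _, _, ξ, hr, hz⟩ h
    exact hz (isZero_iff_subsingleton.2 (h Ω ξ (Spz.default_eq_of_range hr)))
  · intro h
    by_contra hx
    exact h fun Ω _ _ ξ hξ => isZero_iff_subsingleton.1 (by_contra fun hz =>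
      hx ⟨Ω, inferInstance, inferInstance, ξ, Spz.range_eq_singleton ξ hξ, hz⟩)

theorem supp_subset_of_mono {G F : EtCoh.Ab X} (i : G ⟶ F) [Mono i] : EtPBC.supp G ⊆ EtPBC.supp F := by
  rintro x ⟨Ω, _, _, ξ, hr, hz⟩
  exact ⟨Ω, inferInstance, inferInstance, ξ, hr, fun h => hz (IsZero.of_mono ((EtCoh.stalk ξ).map i) h)⟩

theorem isConstructible_supp [CompactSpace X] [QuasiSeparatedSpace X] {G : EtCoh.Ab X}
    (hG : EtPBC.IsConstructible G) : IsConstructible (EtPBC.supp G) := by
  rw [supp_eq_compl]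
  exact (Locus.isConstructible_zero_stalks hG).compl

/-- the closure of a constructible subset of a stable set stays in it -/
theorem closure_subset [CompactSpace X] [QuasiSeparatedSpace X] {s E : Set X} (hs : IsConstructible s)
    (hE : StableUnderSpecialization E) (hsE : s ⊆ E) : closure s ⊆ E := by
  intro y hy
  by_contra hyE
  obtain ⟨U, hyU, hU⟩ := Spz.exists_open_subset hs.compl (q := y) fun a ha has => hyE (hE ha (hsE has))
  obtain ⟨z, hzU, hzs⟩ := mem_closure_iff.1 hy U U.2 hyU
  exact hU hzU hzs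

theorem killed_pres (P : ExtShriek.Pres X) : (∏ i, P.n i) • 𝟙 P.obj = 0 := by
  show (∏ i, P.n i) • 𝟙 (cokernel P.φ) = 0
  refine (cancel_epi (cokernel.π P.φ)).1 ?_
  refine biproduct.hom_ext' _ _ fun i => ?_
  obtain ⟨c, hc⟩ := Finset.dvd_prod_of_mem (fun i => P.n i) (Finset.mem_univ i)
  rw [hc, Preadditive.comp_nsmul, Category.comp_id, comp_zero, Preadditive.comp_nsmul, comp_zero,
    ← Category.id_comp (biproduct.ι (fun i => EtPBC.extZeroConst (P.U i) (ZMod (P.n i))) i ≫ cokernel.π P.φ),
    ← Preadditive.nsmul_comp, mul_nsmul, ExtShriek.nsmul_id_extZeroConst, smul_zero, zero_comp]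

/-- the presented sheaves over `F` supported in a closed subset of `E` -/
def InClosed (F : EtCoh.Ab X) (E : Set X) : ObjectProperty (ExtShriek.PresOver F) := fun j =>
  ∃ Z : Set X, IsClosed Z ∧ Z ⊆ E ∧ EtPBC.supp ((ExtShriek.presDiag F).obj j) ⊆ Z

theorem exists_inClosed [AlgebraicGeometry.IsNoetherian X] {F : EtCoh.Ab X} {E : Set X}
    (hE : StableUnderSpecialization E) (hsupp : EtPBC.supp F ⊆ E) (j : ExtShriek.PresOver F) :
    ∃ k : (InClosed F E).FullSubcategory, Nonempty (j ⟶ k.obj) := by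
  let q : (ExtShriek.presDiag F).obj j ⟶ F := (ExtShriek.presCocone F).ι.app j
  let I := Abelian.image q
  have hI : EtPBC.IsConstructible I := Transfer.isConstructible_quot (Abelian.factorThruImage q) _
    (Finset.prod_pos fun i _ => (j.1.hU i).1) (killed_pres j.1) j.1.isConstructible_obj
  obtain ⟨k, e, he⟩ := ExtShriek.exists_presOver hI (Abelian.image.ι q)
  haveI : Mono ((ExtShriek.presCocone F).ι.app k) := by
    rw [show (ExtShriek.presCocone F).ι.app k = e.inv ≫ Abelian.image.ι q by rw [← he, e.inv_hom_id_assoc]]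
    infer_instance
  have hk : InClosed F E k := ⟨closure (EtPBC.supp ((ExtShriek.presDiag F).obj k)), isClosed_closure,
    closure_subset (isConstructible_supp k.1.isConstructible_obj) hE
      ((supp_subset_of_mono ((ExtShriek.presCocone F).ι.app k)).trans hsupp), subset_closure⟩
  refine ⟨⟨k, hk⟩, ⟨InducedCategory.homMk (Over.homMk (Abelian.factorThruImage q ≫ e.hom) ?_)⟩⟩
  show (_ ≫ e.hom) ≫ (ExtShriek.presCocone F).ι.app k = q
  rw [Category.assoc, he, Abelian.image.fac]

theorem exists_colimit [AlgebraicGeometry.IsNoetherian X] {F : EtCoh.Ab X} (hF : EtCoh.IsTorsion F) {E : Set X}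
    (hE : StableUnderSpecialization E) (hsupp : EtPBC.supp F ⊆ E) :
    ∃ (J : Type (u + 1)) (_ : SmallCategory J) (_ : IsFiltered J) (D : J ⥤ EtCoh.Ab X)
      (c : Cocone D) (_ : IsColimit c), Nonempty (c.pt ≅ F) ∧
      ∀ j, EtPBC.IsConstructible (D.obj j) ∧
        ∃ Z : Set X, IsClosed Z ∧ Z ⊆ E ∧ EtPBC.supp (D.obj j) ⊆ Z := by
  have h : ∀ d, ∃ c, Nonempty (d ⟶ (InClosed F E).ι.obj c) := exists_inClosed hE hsupp
  haveI : Nonempty (InClosed F E).FullSubcategory :=
    ⟨(h (Classical.choice IsFiltered.nonempty)).choose⟩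
  haveI := IsFilteredOrEmpty.of_exists_of_isFiltered_of_fullyFaithful (InClosed F E).ι h
  haveI : IsFiltered (InClosed F E).FullSubcategory := {}
  haveI := Functor.final_of_exists_of_isFiltered_of_fullyFaithful (InClosed F E).ι h
  obtain ⟨hc⟩ := ExtShriek.isColimit_presCocone (F := F) hF
  exact ⟨(InClosed F E).FullSubcategory, inferInstance, inferInstance, (InClosed F E).ι ⋙ ExtShriek.presDiag F, _,
    (Functor.Final.isColimitWhiskerEquiv (InClosed F E).ι _).symm hc, ⟨Iso.refl _⟩,
    fun j => ⟨j.obj.1.isConstructible_obj, j.property⟩⟩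

end Groth.L28.Supp
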