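import Groth.Agent.L28.Supp.Vanish
import Groth.Agent.L28.LocConstAb.Sect
import Groth.Agent.L00.RDerLES
import Groth.Prelude.Def_EtDepth
import Mathlib.GroupTheory.Perm.Cycle.Type

/-!
Depth for locally constant sheaves of prime power torsion.
-/

set_option autoImplicit false
set_option linter.style.haveILetI false
set_option linter.unusedSectionVars false
set_option backward.isDefEq.respectTransparency.types false

universe u

open CategoryTheory CategoryTheory.Limits AlgebraicGeometry Opposite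
open Groth.L28.LocConstAb (sec sec_restrIso sec_injective exists_sec_eq rs)

namespace Groth.L28.Supp

variable {X : Scheme.{u}}

/-- a trivialised sheaf restricts to a constant sheaf -/
theorem nonempty_restrAlong_iso_const (F : EtCoh.Ab X) (W : X.Etale) [AlgebraicGeometry.Etale W.hom]
    [EtShriek.JCont W.hom] {M : AddCommGrpCat.{u + 1}}
    (α : EtCoh.restr F W ≅ (LocConstAb.constOver W).obj M) :
    Nonempty ((EtShriek.restrAlong W.hom).obj F ≅ (constantSheaf W.left.smallEtaleTopology AddCommGrpCat.{u + 1}).obj M) := by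
  let g : ∀ T : W.left.Etale, (EtShriek.compEtale W.hom).obj T ⟶ W :=
    fun T => MorphismProperty.Over.homMk T.hom rfl
  let G := (EtShriek.restrAlong W.hom).obj F
  let η : (Functor.const W.left.Etaleᵒᵖ).obj M ⟶ G.obj :=
    { app := fun T => sec α ≫ rs F (g T.unop)
      naturality := fun T T' f => by
        show 𝟙 M ≫ sec α ≫ rs F (g T'.unop) = (sec α ≫ rs F (g T.unop)) ≫ G.obj.map f
        rw [Category.id_comp, Category.assoc]
        refine congrArg (sec α ≫ ·) ?_
        refine Eq.trans ?_ (F.obj.map_comp _ _)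
        exact congrArg (fun k => F.obj.map (Quiver.Hom.op k))
          (MorphismProperty.Over.Hom.ext (MorphismProperty.Over.w f.unop).symm) }
  haveI : Presheaf.IsLocallyInjective W.left.smallEtaleTopology η := ⟨fun {T} a b hab => by
    rcases isEmpty_or_nonempty T.unop.left with hT | ⟨⟨t⟩⟩
    · exact (Groth.L27.EtSite.mem_topology_iff _).2 fun x => isEmptyElim x
    suffices a = b by subst this; rw [Presheaf.equalizerSieve_self_eq_top]; exact W.left.smallEtaleTopology.top_mem _
    refine sec_injective (LocConstAb.restrIso (g T.unop) α) t ?_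
    rw [sec_restrIso]
    exact hab⟩
  haveI : Presheaf.IsLocallySurjective W.left.smallEtaleTopology η := ⟨fun {T} s => by
    refine (Groth.L27.EtSite.mem_topology_iff _).2 fun x => ?_
    obtain ⟨V, h, v, hv, hm⟩ := exists_sec_eq (LocConstAb.restrIso (g T) α) (fun _ : Fin 1 => s) x
    obtain ⟨m, hm⟩ := hm 0
    haveI : AlgebraicGeometry.Etale V.hom := V.prop
    haveI : AlgebraicGeometry.Etale T.hom := T.prop
    haveI : AlgebraicGeometry.Etale (h.left ≫ ((EtShriek.compEtale W.hom).obj T).hom) := by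
      rw [MorphismProperty.Over.w h]; exact V.prop
    haveI : AlgebraicGeometry.Etale ((EtShriek.compEtale W.hom).obj T).hom := ((EtShriek.compEtale W.hom).obj T).prop
    haveI : AlgebraicGeometry.Etale h.left := AlgebraicGeometry.Etale.of_comp h.left ((EtShriek.compEtale W.hom).obj T).hom
    haveI : AlgebraicGeometry.Etale (h.left ≫ T.hom) :=
      MorphismProperty.comp_mem (W := EtCoh.etaleMP.{u}) _ _ ‹AlgebraicGeometry.Etale h.left› T.prop
    let V' : W.left.Etale := MorphismProperty.Over.mk ⊤ (h.left ≫ T.hom)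
      (inferInstanceAs (AlgebraicGeometry.Etale (h.left ≫ T.hom)))
    let h' : V' ⟶ T := MorphismProperty.Over.homMk h.left rfl
    refine ⟨V', h', v, ⟨m, ?_⟩, hv⟩
    let e : (EtShriek.compEtale W.hom).obj V' ⟶ V := MorphismProperty.Over.homMk (𝟙 V.left)
      ((Category.id_comp _).trans ((MorphismProperty.Over.w h).symm.trans (Category.assoc _ _ _).symm))
    show rs F (g V') (sec α m) = F.obj.map ((EtShriek.compEtale W.hom).map h').op s
    rw [sec_restrIso, sec_restrIso] at hm
    rw [show g V' = e ≫ h ≫ g T from MorphismProperty.Over.Hom.ext (Category.id_comp _).symm,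
      show (EtShriek.compEtale W.hom).map h' = e ≫ h from MorphismProperty.Over.Hom.ext (Category.id_comp _).symm]
    simp only [rs, op_comp, Functor.map_comp_apply] at hm ⊢
    exact congrArg (F.obj.map e.op) hm⟩
  let φ : (constantSheaf W.left.smallEtaleTopology AddCommGrpCat.{u + 1}).obj M ⟶ G :=
    ⟨sheafifyLift W.left.smallEtaleTopology η G.property⟩
  have hφ : toSheafify W.left.smallEtaleTopology ((Functor.const W.left.Etaleᵒᵖ).obj M) ≫ φ.hom = η :=
    toSheafify_sheafifyLift _ _ _
  haveI : Sheaf.IsLocallyInjective φ := Presheaf.isLocallyInjective_of_isLocallyInjective_of_isLocallySurjective_fac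
    W.left.smallEtaleTopology (f₁ := toSheafify _ _) (f₂ := φ.hom) η hφ
  haveI : Sheaf.IsLocallySurjective φ := Presheaf.isLocallySurjective_of_isLocallySurjective_fac
    W.left.smallEtaleTopology (f₁ := toSheafify _ _) (f₂ := φ.hom) hφ
  haveI : IsIso φ := (Sheaf.isLocallyBijective_iff_isIso φ).1 ⟨inferInstance, inferInstance⟩
  exact ⟨(asIso φ).symm⟩

variable {U : Scheme.{u}} (j : U ⟶ X) [IsOpenImmersion j] [EtCoh.BCCont j]

/-- vanishing for constant sheaves of prime order groups gives vanishing for prime power torsion groups -/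
theorem isZero_locCoh_constant (ℓ : ℕ) (hℓ : ℓ.Prime) (p : ℕ)
    (h : IsZero ((EtDual.locCoh j p).obj (EtCoh.const X (ZMod ℓ)))) (c : ℕ) :
    ∀ (M : Type) [AddCommGroup M] [Finite M], Nat.card M ≤ c → (∀ m : M, ∃ k : ℕ, ℓ ^ k • m = 0) →
      IsZero ((EtDual.locCoh j p).obj (EtCoh.const X M)) := by
  letI := HasDerivedCategory.standard.{max (u + 1) (u + 1)} (EtCoh.Ab X)
  haveI := Groth.L00.RDerLES.additive (EtDual.secSupp j) p
  haveI : (EtDual.locCoh j p).Additive := inferInstanceAs ((EtDual.secSupp j).rightDerived p).Additive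
  let Φ := (constantSheaf X.smallEtaleTopology AddCommGrpCat.{u + 1})
  haveI : PreservesFiniteLimits Φ := inferInstanceAs (PreservesFiniteLimits
    (Functor.const X.Etaleᵒᵖ ⋙ presheafToSheaf X.smallEtaleTopology AddCommGrpCat.{u + 1}))
  haveI : PreservesColimitsOfSize.{0, 0} Φ := (EtCore.constAdj X).leftAdjoint_preservesColimits
  haveI : PreservesFiniteColimits Φ := PreservesColimitsOfSize.preservesFiniteColimits _
  haveI : Φ.Additive := Functor.additive_of_preserves_binary_products _
  induction c with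
  | zero =>
    intro M _ _ hM _
    exact absurd hM (Nat.not_le.2 Nat.card_pos)
  | succ c ih =>
    intro M _ _ hM ht
    rcases subsingleton_or_nontrivial M with hs | hs
    · haveI : Subsingleton ↑(AddCommGrpCat.of (ULift.{u + 1} M)) := inferInstanceAs (Subsingleton (ULift.{u + 1} M))
      exact (EtDual.locCoh j p).map_isZero (Φ.map_isZero (AddCommGrpCat.isZero_of_subsingleton _))
    obtain ⟨m, hm⟩ := exists_ne (0 : M)
    obtain ⟨k, hk⟩ := ht m
    obtain ⟨a, ha, ha'⟩ : ∃ a : M, a ≠ 0 ∧ ℓ • a = 0 := by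
      induction k generalizing m with
      | zero => exact absurd (by simpa using hk) hm
      | succ k ihk =>
        by_cases h0 : ℓ ^ k • m = 0
        · exact ihk m hm h0
        · exact ⟨_, h0, by rwa [← mul_nsmul, ← pow_succ]⟩
    haveI : Fact ℓ.Prime := ⟨hℓ⟩
    let i₀ : ZMod ℓ →+ M := ZMod.lift ℓ ⟨zmultiplesHom M a, by rw [zmultiplesHom_apply, natCast_zsmul, ha']⟩
    have hi₀ : Function.Injective i₀ := by
      refine (injective_iff_map_eq_zero _).2 fun x hx => by_contra fun hne => ha ?_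
      have e : ∀ y : ZMod ℓ, i₀ y = y.val • a := fun y => by
        conv_lhs => rw [← ZMod.natCast_zmod_val y]
        rw [show ((y.val : ℕ) : ZMod ℓ) = ((y.val : ℤ) : ZMod ℓ) from (Int.cast_natCast _).symm]
        exact (ZMod.lift_coe ℓ _ _).trans (natCast_zsmul a _)
      have h1 : i₀ 1 = a := by rw [e, ZMod.val_one, one_nsmul]
      have h2 : i₀ 1 = 0 := by
        rw [show (1 : ZMod ℓ) = (x⁻¹).val • x by rw [nsmul_eq_mul, ZMod.natCast_zmod_val, inv_mul_cancel₀ hne],
          map_nsmul, hx, nsmul_zero]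
      exact h1.symm.trans h2
    let Q := M ⧸ i₀.range
    have hQ : Nat.card Q ≤ c := by
      have h1 := i₀.range.card_eq_card_quotient_mul_card_addSubgroup
      have h2 : 1 < Nat.card i₀.range := by
        rw [← Nat.card_congr (AddMonoidHom.ofInjective hi₀).toEquiv, Nat.card_zmod]
        exact hℓ.one_lt
      have h3 : 0 < Nat.card Q := Nat.card_pos
      show Nat.card (M ⧸ i₀.range) ≤ c
      nlinarith
    let S : ShortComplex AddCommGrpCat.{u + 1} := ShortComplex.mk
      (AddCommGrpCat.ofHom ((AddEquiv.ulift.symm.toAddMonoidHom).comp (i₀.comp AddEquiv.ulift.toAddMonoidHom) :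
        ULift.{u + 1} (ZMod ℓ) →+ ULift.{u + 1} M))
      (AddCommGrpCat.ofHom ((AddEquiv.ulift.symm.toAddMonoidHom).comp ((QuotientAddGroup.mk' i₀.range).comp AddEquiv.ulift.toAddMonoidHom) :
        ULift.{u + 1} M →+ ULift.{u + 1} Q))
      (ConcreteCategory.hom_ext _ _ fun x => ULift.ext _ _ ((QuotientAddGroup.eq_zero_iff _).2 (AddMonoidHom.mem_range.2 ⟨x.down, rfl⟩)))
    have hS : S.ShortExact :=
      { exact := (ShortComplex.ab_exact_iff S).2 fun x hx => by
          obtain ⟨y, hy⟩ := (QuotientAddGroup.eq_zero_iff x.down).1 (congrArg ULift.down hx)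
          exact ⟨ULift.up y, ULift.ext _ _ hy⟩
        mono_f := (AddCommGrpCat.mono_iff_injective _).2 fun x y e => ULift.ext _ _ (hi₀ (congrArg ULift.down e))
        epi_g := (AddCommGrpCat.epi_iff_surjective _).2 fun y => by
          obtain ⟨x, hx⟩ := QuotientAddGroup.mk'_surjective i₀.range y.down
          exact ⟨ULift.up x, ULift.ext _ _ hx⟩ }
    have hq : ∀ q : Q, ∃ k : ℕ, ℓ ^ k • q = 0 := fun q => by
      obtain ⟨x, rfl⟩ := QuotientAddGroup.mk'_surjective i₀.range q
      obtain ⟨k, hk⟩ := ht x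
      exact ⟨k, by rw [← map_nsmul, hk, map_zero]⟩
    exact ShortComplex.Exact.isZero_of_both_zeros (Groth.L00.RDerLES.exact₂ (EtDual.secSupp j) (hS.map_of_exact Φ) p)
      (h.eq_of_src _ _) ((ih Q hQ hq).eq_of_tgt _ _)

theorem isZero_restr_locCoh_of_trivial (ℓ : ℕ) (hℓ : ℓ.Prime) (p : ℕ)
    (hX : IsZero ((EtDual.locCoh j p).obj (EtCoh.const X (ZMod ℓ)))) (F : EtCoh.Ab X) (hFt : EtDepth.IsLTorsion ℓ F)
    (W : X.Etale) [AlgebraicGeometry.Etale W.hom] [EtShriek.JCont W.hom] (w : W.left) {M : Type} [AddCommGroup M] [Finite M]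
    (α : EtCoh.restr F W ≅ (LocConstAb.constOver W).obj (AddCommGrpCat.of (ULift.{u + 1} M))) :
    IsZero ((EtShriek.restrAlong W.hom).obj ((EtDual.locCoh j p).obj F)) := by
  have ht : ∀ m : M, ∃ k : ℕ, ℓ ^ k • m = 0 := fun m => by
    obtain ⟨V, g, ⟨v, -⟩, k, hk⟩ := hFt W (sec α (ULift.up m)) w
    refine ⟨k, ?_⟩
    have e : sec (LocConstAb.restrIso g α) (ULift.up (ℓ ^ k • m)) = 0 := by
      rw [sec_restrIso, show (ULift.up (ℓ ^ k • m) : ULift.{u + 1} M) = ℓ ^ k • ULift.up m from rfl, map_nsmul]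
      exact hk
    exact congrArg ULift.down (sec_injective (LocConstAb.restrIso g α) v (e.trans (map_zero (sec (LocConstAb.restrIso g α)).hom).symm))
  let v : W.left ⟶ X := W.hom
  haveI : AlgebraicGeometry.Etale v := inferInstanceAs (AlgebraicGeometry.Etale W.hom)
  haveI : EtShriek.JCont v := ‹EtShriek.JCont W.hom›
  obtain ⟨a⟩ := nonempty_restr_locCoh_iso j v p F
  obtain ⟨b⟩ := nonempty_restr_locCoh_iso j v p (EtCoh.const X (ZMod ℓ))
  obtain ⟨c⟩ := nonempty_restrAlong_iso_const F W α
  have h0 : IsZero ((EtDual.locCoh (pullback.snd j v) p).obj (EtCoh.const W.left (ZMod ℓ))) :=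
    ((EtShriek.restrAlong v).map_isZero hX).of_iso
      ((EtDual.locCoh _ p).mapIso (restrConst v (ZMod ℓ)).symm ≪≫ b.symm)
  exact (isZero_locCoh_constant (pullback.snd j v) ℓ hℓ p h0 (Nat.card M) M le_rfl ht).of_iso
    (a ≪≫ (EtDual.locCoh _ p).mapIso c)

theorem depthGE_of_isFiniteLocallyConstant (ℓ : ℕ) (hℓ : ℓ.Prime) (n : ℕ)
    (hX : EtDepth.DepthGE j (EtCoh.const X (ZMod ℓ)) n) (F : EtCoh.Ab X) (hF : EtCoh.IsFiniteLocallyConstant F)
    (hFt : EtDepth.IsLTorsion ℓ F) : EtDepth.DepthGE j F n := by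
  intro p hp
  obtain ⟨ι, W, hW, hM⟩ := hF
  refine isZero_of_restr fun x => ?_
  obtain ⟨i, w, hw⟩ := hW x
  obtain ⟨M, _, _, ⟨α⟩⟩ := hM i
  haveI : AlgebraicGeometry.Etale (W i).hom := (W i).prop
  haveI hJ : EtShriek.JCont (W i).hom := Groth.L27.ExtZero.jCont (W i).hom
  refine ⟨(W i).left, (W i).hom, this, hJ, ⟨w, hw⟩, ?_⟩
  exact isZero_restr_locCoh_of_trivial j ℓ hℓ p (hX p hp) F hFt (W i) w α

end Groth.L28.Supp
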