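import Groth.Agent.L28.Supp.Sect
import Groth.Agent.L28.Supp.Twist
import Groth.Agent.L27.EtSite.Kummer

/-!
Vanishing of local cohomology sheaves is insensitive to Tate twists.
-/

set_option autoImplicit false
set_option linter.style.haveILetI false
set_option linter.unusedSectionVars false
set_option backward.isDefEq.respectTransparency.types false

universe u

open CategoryTheory CategoryTheory.Limits AlgebraicGeometry Opposite Polynomial

namespace Groth.L28.Supp

/-- etale locally there are primitive roots of unity, for invertible orders -/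
theorem exists_etale_mu_iso {X : Scheme.{u}} (n : ℕ) (hn : IsUnit (n : Γ(X, ⊤))) (x : X) :
    ∃ (V : Scheme.{u}) (v : V ⟶ X) (_ : AlgebraicGeometry.Etale v),
      x ∈ Set.range v ∧ 1 ≤ n ∧ Nonempty (EtCoh.mu V n ≅ EtCoh.const V (ZMod n)) := by
  obtain ⟨R, j, _, hx⟩ := X.exists_affine_mem_range_and_range_subset (U := ⊤) (x := x) trivial
  obtain ⟨⟨x₀, hx₀⟩, -⟩ := hx
  have hu : IsUnit (n : R) := by
    have := hn.map (j.appTop ≫ (Scheme.ΓSpecIso R).hom).hom
    rwa [map_natCast] at this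
  have hn0 : 0 < n := by
    refine Nat.pos_of_ne_zero fun h => ?_
    subst h
    rw [Nat.cast_zero, isUnit_zero_iff] at hu
    exact x₀.isPrime.ne_top ((Ideal.eq_top_iff_one _).2 (by rw [← hu]; exact zero_mem _))
  let P : StandardEtalePair R :=
    { f := Polynomial.X ^ n - Polynomial.C 1
      monic_f := monic_X_pow_sub_C _ hn0.ne'
      g := ∏ i ∈ Finset.Ico 1 n, (Polynomial.X ^ i - 1)
      cond := ⟨Polynomial.C (↑hu.unit⁻¹ : R) * Polynomial.X, Polynomial.C (-1), 0, by
        obtain ⟨m, rfl⟩ : ∃ m, n = m + 1 := ⟨n - 1, by omega⟩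
        have h1 : Polynomial.C ((m + 1 : ℕ) : R) * Polynomial.C ((↑hu.unit⁻¹ : R)) = 1 := by
          rw [← C_mul, IsUnit.mul_val_inv, C_1]
        simp only [derivative_sub, derivative_X_pow, derivative_one, sub_zero, Nat.add_sub_cancel, pow_zero, C_neg, C_1]
        linear_combination (Polynomial.X ^ (m + 1)) * h1⟩ }
  let φ : R ⟶ CommRingCat.of P.Ring := CommRingCat.ofHom (algebraMap R P.Ring)
  haveI : AlgebraicGeometry.Etale (Spec.map φ) :=
    HasRingHomProperty.Spec_iff.2 (RingHom.etale_algebraMap.2 inferInstance)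
  let K := AlgebraicClosure (FractionRing (R ⧸ x₀.asIdeal))
  let alg : Algebra R K :=
    ((algebraMap (FractionRing (R ⧸ x₀.asIdeal)) K).comp
      ((algebraMap (R ⧸ x₀.asIdeal) (FractionRing (R ⧸ x₀.asIdeal))).comp
        (Ideal.Quotient.mk x₀.asIdeal))).toAlgebra
  haveI : NeZero n := ⟨hn0.ne'⟩
  haveI : NeZero (n : K) := ⟨by rw [← map_natCast (algebraMap R K)]; exact (hu.map _).ne_zero⟩
  obtain ⟨r, hr⟩ := HasEnoughRootsOfUnity.exists_primitiveRoot K n
  have hmap : P.HasMap r := by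
    refine ⟨by simp [P, hr.pow_eq_one], ?_⟩
    simp only [P, map_prod, map_sub, map_pow, aeval_X, map_one]
    refine isUnit_iff_ne_zero.2 (Finset.prod_ne_zero_iff.2 fun i hi => sub_ne_zero.2 ?_)
    exact hr.pow_ne_one_of_pos_of_lt (by simp only [Finset.mem_Ico] at hi; omega) (Finset.mem_Ico.1 hi).2
  let ψ := P.lift r hmap
  let v₀ : Spec (CommRingCat.of P.Ring) := ⟨RingHom.ker ψ.toRingHom, RingHom.ker_isPrime _⟩
  have hv : (Spec.map φ).base v₀ = x₀ := by
    apply PrimeSpectrum.ext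
    ext q
    change ψ (algebraMap R P.Ring q) = 0 ↔ _
    rw [AlgHom.commutes]
    change algebraMap (FractionRing (R ⧸ x₀.asIdeal)) K (algebraMap (R ⧸ x₀.asIdeal) _
      (Ideal.Quotient.mk x₀.asIdeal q)) = 0 ↔ _
    rw [map_eq_zero_iff _ (RingHom.injective _),
      map_eq_zero_iff _ (IsFractionRing.injective (R ⧸ x₀.asIdeal) _), Ideal.Quotient.eq_zero_iff_mem]
  have hX : P.X ^ n = 1 := by
    have h : aeval P.X (Polynomial.X ^ n - Polynomial.C (1 : R)) = 0 := P.hasMap_X.1
    rw [map_sub, map_pow, aeval_X, aeval_C, map_one, sub_eq_zero] at h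
    exact h
  have hg : ∀ i ∈ Finset.Ico 1 n, IsUnit (P.X ^ i - 1) := by
    have h : IsUnit (aeval P.X (∏ i ∈ Finset.Ico 1 n, (Polynomial.X ^ i - (1 : R[X])))) := P.hasMap_X.2
    simp only [map_prod, map_sub, map_pow, aeval_X, map_one, IsUnit.prod_iff] at h
    exact h
  let e : P.Ring →+* Γ(Spec (CommRingCat.of P.Ring), ⊤) := (Scheme.ΓSpecIso (CommRingCat.of P.Ring)).inv.hom
  let z : Γ(Spec (CommRingCat.of P.Ring), ⊤)ˣ :=
    Units.map e.toMonoidHom (IsUnit.of_pow_eq_one hX hn0.ne').unit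
  refine ⟨Spec (CommRingCat.of P.Ring), Spec.map φ ≫ j, inferInstance, ⟨v₀, ?_⟩, hn0, ?_⟩
  · exact (Scheme.Hom.comp_apply _ _ _).trans ((congrArg _ hv).trans hx₀)
  · refine Misc.nonempty_mu_iso_const ?_ hn0 z (Units.ext ?_) fun i hi hin => ?_
    · have := (hu.map (algebraMap R P.Ring)).map e
      rwa [map_natCast, map_natCast] at this
    · simpa [z, ← map_pow] using congrArg e hX
    · simpa [z, ← map_pow, map_sub] using (hg i (Finset.mem_Ico.2 ⟨hi, hin⟩)).map e

/-- a sheaf vanishing on an etale covering vanishes -/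
theorem isZero_of_restr {X : Scheme.{u}} {K : EtCoh.Ab X}
    (h : ∀ x : X, ∃ (V : Scheme.{u}) (v : V ⟶ X) (_ : AlgebraicGeometry.Etale v) (_ : EtShriek.JCont v),
      x ∈ Set.range v ∧ IsZero ((EtShriek.restrAlong v).obj K)) : IsZero K := by
  rw [IsZero.iff_id_eq_zero]
  refine ObjectProperty.hom_ext _ (NatTrans.ext (funext fun W => ConcreteCategory.hom_ext _ _ fun s => ?_))
  let S : Sieve W.unop :=
    { arrows := fun T g => K.obj.map g.op s = 0
      downward_closed := fun {T T'} g hg k => by rw [op_comp, Functor.map_comp_apply, hg, map_zero] }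
  have hS : S ∈ X.smallEtaleTopology W.unop := (Groth.L27.EtSite.mem_topology_iff _).2 fun x => by
    obtain ⟨V, v, hv, hJ, ⟨y, hy⟩, h0⟩ := h (W.unop.hom x)
    let T : X.Etale := (EtShriek.compEtale v).obj ((EtCoh.bc v).obj W.unop)
    let g : T ⟶ W.unop := Groth.L27.ExtZero.epsE v W.unop
    obtain ⟨t, ht, -⟩ := Scheme.exists_preimage_of_isPullback (IsPullback.of_hasPullback W.unop.hom v) x y hy.symm
    refine ⟨T, g, t, ?_, ht⟩
    show K.obj.map g.op s = 0
    haveI : Subsingleton (((EtShriek.restrAlong v).obj K).obj.obj (op ((EtCoh.bc v).obj W.unop))) :=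
      AddCommGrpCat.subsingleton_of_isZero (((sheafToPresheaf _ _ ⋙
        (evaluation V.Etaleᵒᵖ AddCommGrpCat.{u + 1}).obj (op ((EtCoh.bc v).obj W.unop)))).map_isZero h0)
    exact Subsingleton.elim (α := ((EtShriek.restrAlong v).obj K).obj.obj (op ((EtCoh.bc v).obj W.unop))) _ _
  show s = 0
  exact CategoryTheory.Presieve.IsSeparatedFor.ext (P := K.obj ⋙ CategoryTheory.forget AddCommGrpCat.{u + 1})
    (((CategoryTheory.isSheaf_iff_isSheaf_of_type _ _).1 (GrothendieckTopology.HasSheafCompose.isSheaf (F := CategoryTheory.forget AddCommGrpCat.{u + 1}) K.obj K.property)).isSeparated S hS)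
    fun {T} g hg => (hg : K.obj.map g.op s = 0).trans (map_zero (K.obj.map g.op).hom).symm

variable {X U : Scheme.{u}} (j : U ⟶ X) [IsOpenImmersion j] [EtCoh.BCCont j]

/-- local cohomology sheaves commute with restriction -/
theorem nonempty_restr_locCoh_iso {V : Scheme.{u}} (v : V ⟶ X) [AlgebraicGeometry.Etale v] [EtShriek.JCont v]
    [EtCoh.BCCont (pullback.snd j v)] (p : ℕ) (F : EtCoh.Ab X) :
    Nonempty ((EtShriek.restrAlong v).obj ((EtDual.locCoh j p).obj F) ≅
      (EtDual.locCoh (pullback.snd j v) p).obj ((EtShriek.restrAlong v).obj F)) := by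
  haveI : PreservesLimitsOfSize.{0, 0} (EtShriek.restrAlong v) := (EtShriek.extZeroAdj v).rightAdjoint_preservesLimits
  haveI : PreservesFiniteLimits (EtShriek.restrAlong v) := PreservesLimitsOfSize.preservesFiniteLimits _
  haveI : PreservesColimitsOfSize.{0, 0} (EtShriek.restrAlong v) :=
    (Groth.L27.ExtZero.restrAdj v).leftAdjoint_preservesColimits
  haveI : PreservesFiniteColimits (EtShriek.restrAlong v) := PreservesColimitsOfSize.preservesFiniteColimits _
  obtain ⟨a⟩ := nonempty_postcomp_iso (EtDual.secSupp j) (EtShriek.restrAlong v) p F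
  obtain ⟨b⟩ := nonempty_rightDerived_iso
    (restrIso j v (pullback.snd j v) (pullback.fst j v) (IsPullback.of_hasPullback j v)) p F
  obtain ⟨c⟩ := nonempty_precomp_iso (EtShriek.restrAlong v) (EtDual.secSupp (pullback.snd j v))
    (fun I _ => Groth.L27.ExtZero.injective_restrAlong v I) p F
  exact ⟨a.symm ≪≫ b ≪≫ c⟩

theorem isZero_locCoh_tate (n : ℕ) (hn : IsUnit (n : Γ(X, ⊤))) (c p : ℕ)
    (h : IsZero ((EtDual.locCoh j p).obj (EtCoh.const X (ZMod n)))) :
    IsZero ((EtDual.locCoh j p).obj (EtDual.tate X n c)) := by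
  refine isZero_of_restr fun x => ?_
  obtain ⟨V, v, hv, hx, hn1, hμ⟩ := exists_etale_mu_iso n hn x
  haveI := hv
  haveI := Groth.L27.ExtZero.jCont v
  haveI : NeZero n := ⟨by omega⟩
  refine ⟨V, v, hv, inferInstance, hx, ?_⟩
  obtain ⟨a⟩ := nonempty_restr_tate_iso n v hμ c
  obtain ⟨b⟩ := nonempty_restr_locCoh_iso j v p (EtDual.tate X n c)
  obtain ⟨b'⟩ := nonempty_restr_locCoh_iso j v p (EtCoh.const X (ZMod n))
  exact ((EtShriek.restrAlong v).map_isZero h).of_iso
    (b ≪≫ (EtDual.locCoh (pullback.snd j v) p).mapIso (a ≪≫ (restrConst v (ZMod n)).symm) ≪≫ b'.symm)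

end Groth.L28.Supp
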