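import Groth.Agent.L28.Supp.DerComp
import Groth.Prelude.Def_RDer

/-!
The edge map to the first possibly nonzero derived functor is an isomorphism.
-/

set_option autoImplicit false
set_option linter.style.haveILetI false
set_option backward.isDefEq.respectTransparency false

universe v v' v'' u u' u''

open CategoryTheory CategoryTheory.Limits HomologicalComplex

namespace Groth.L28.Supp

section Complex

variable {B : Type u'} [Category.{v'} B] [Abelian B] {C : Type u''} [Category.{v''} C] [Abelian C]

theorem injective_cycles (K : CochainComplex B ℕ) (hK : ∀ i, Injective (K.X i)) (n : ℕ)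
    (h : ∀ p, p < n → IsZero (K.homology p)) : ∀ m, m < n → Injective (K.cycles m) := by
  intro m
  induction m with
  | zero => exact fun hn => ((h 0 hn).of_iso K.isoHomologyπ₀).injective
  | succ m ih =>
    intro hm
    haveI := ih (by omega)
    haveI := hK m
    let T : ShortComplex B := ShortComplex.mk (K.iCycles m) (K.toCycles m (m + 1)) (by
      rw [← cancel_mono (K.iCycles (m + 1)), Category.assoc, toCycles_i, iCycles_d, zero_comp])
    have hT : T.Exact := T.exact_of_f_is_kernel (KernelFork.IsLimit.ofι' (f := T.g) (K.iCycles m) T.zero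
      fun {A} k hk => ⟨K.liftCycles k (m + 1) (CochainComplex.next ℕ m) (by
        have e := congrArg (· ≫ K.iCycles (m + 1)) hk
        simpa [T] using e), K.liftCycles_i _ _ _ _⟩)
    haveI : Mono T.f := inferInstanceAs (Mono (K.iCycles m))
    haveI : Injective T.X₁ := inferInstanceAs (Injective (K.cycles m))
    haveI : Injective T.X₂ := inferInstanceAs (Injective (K.X m))
    obtain ⟨r, hr⟩ := exists_regular hT
    have hc := K.homologyIsCokernel m (m + 1) (CochainComplex.prev_nat_succ m)
    haveI : Epi (K.toCycles m (m + 1)) :=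
      Preadditive.epi_of_isZero_cokernel' _ hc (h (m + 1) hm)
    have hs : r ≫ K.toCycles m (m + 1) = 𝟙 (K.cycles (m + 1)) := by
      rw [← cancel_epi (K.toCycles m (m + 1)), Category.comp_id]; exact hr
    exact (Retract.mk r (K.toCycles m (m + 1)) hs).injective

theorem exists_regular_toCycles (K : CochainComplex B ℕ) (hK : ∀ i, Injective (K.X i)) (n : ℕ)
    (h : ∀ p, p < n → IsZero (K.homology p)) :
    ∃ r : K.cycles n ⟶ K.X ((ComplexShape.up ℕ).prev n),
      K.toCycles ((ComplexShape.up ℕ).prev n) n ≫ r ≫ K.toCycles ((ComplexShape.up ℕ).prev n) n =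
        K.toCycles ((ComplexShape.up ℕ).prev n) n := by
  cases n with
  | zero =>
    refine ⟨0, ?_⟩
    rw [← cancel_mono (K.iCycles 0)]
    simp
  | succ m =>
    rw [CochainComplex.prev_nat_succ]
    haveI := injective_cycles K hK (m + 1) h m (Nat.lt_succ_self m)
    let T : ShortComplex B := ShortComplex.mk (K.iCycles m) (K.toCycles m (m + 1)) (by
      rw [← cancel_mono (K.iCycles (m + 1)), Category.assoc, toCycles_i, iCycles_d, zero_comp])
    have hT : T.Exact := T.exact_of_f_is_kernel (KernelFork.IsLimit.ofι' (f := T.g) (K.iCycles m) T.zero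
      fun {A} k hk => ⟨K.liftCycles k (m + 1) (CochainComplex.next ℕ m) (by
        have e := congrArg (· ≫ K.iCycles (m + 1)) hk
        simpa [T] using e), K.liftCycles_i _ _ _ _⟩)
    haveI : Mono T.f := inferInstanceAs (Mono (K.iCycles m))
    haveI : Injective T.X₁ := inferInstanceAs (Injective (K.cycles m))
    haveI : Injective T.X₂ := hK m
    exact exists_regular hT

theorem isIso_homologyComparison (Ψ : B ⥤ C) [Ψ.Additive] [PreservesFiniteLimits Ψ] (K : CochainComplex B ℕ)
    (hK : ∀ i, Injective (K.X i)) (n : ℕ) (h : ∀ p, p < n → IsZero (K.homology p)) :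
    IsIso (RDer.homologyComparison Ψ K n) := by
  let c := ComplexShape.up ℕ
  obtain ⟨r, hr⟩ := exists_regular_toCycles K hK n h
  let t := K.toCycles (c.prev n) n
  have hc := K.homologyIsCokernel (c.prev n) n rfl
  let s : K.homology n ⟶ K.cycles n := hc.desc (CokernelCofork.ofπ (𝟙 (K.cycles n) - r ≫ t) (by
    rw [Preadditive.comp_sub, Category.comp_id, hr, sub_self]))
  have hs : K.homologyπ n ≫ s = 𝟙 (K.cycles n) - r ≫ t := hc.fac _ WalkingParallelPair.one
  have hs' : s ≫ K.homologyπ n = 𝟙 _ := by
    rw [← cancel_epi (K.homologyπ n), ← Category.assoc, hs, Preadditive.sub_comp, Category.assoc,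
      toCycles_comp_homologyπ, comp_zero, sub_zero, Category.id_comp, Category.comp_id]
  let K' := (Ψ.mapHomologicalComplex c).obj K
  haveI : IsIso (RDer.cyclesComparison Ψ K n) :=
    ((K'.cyclesIsKernel n (c.next n) rfl).conePointUniqueUpToIso
      (KernelFork.mapIsLimit _ (K.cyclesIsKernel n (c.next n) rfl) Ψ)).isIso_hom
  refine ⟨Ψ.map s ≫ inv (RDer.cyclesComparison Ψ K n) ≫ K'.homologyπ n, ?_, ?_⟩
  · rw [← cancel_epi (K'.homologyπ n), RDer.homologyπ_homologyComparison_assoc, ← Ψ.map_comp_assoc, hs,
      Category.comp_id, Ψ.map_sub, Ψ.map_id, Ψ.map_comp, Preadditive.sub_comp, Preadditive.comp_sub, Category.id_comp,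
      IsIso.hom_inv_id_assoc, Category.assoc, ← RDer.toCycles_cyclesComparison, Category.assoc, IsIso.hom_inv_id_assoc,
      toCycles_comp_homologyπ, comp_zero, comp_zero, sub_zero]
  · rw [Category.assoc, Category.assoc, RDer.homologyπ_homologyComparison, IsIso.inv_hom_id_assoc, ← Ψ.map_comp, hs',
      Ψ.map_id]

end Complex

variable {A : Type u} [Category.{v} A] [Abelian A] [HasInjectiveResolutions A]
  {B : Type u'} [Category.{v'} B] [Abelian B] {C : Type u''} [Category.{v''} C] [Abelian C]

theorem isIso_edgeOut (Φ : A ⥤ B) [Φ.Additive] (Ψ : B ⥤ C) [Ψ.Additive] [PreservesFiniteLimits Ψ]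
    (hΦ : ∀ I : A, Injective I → Injective (Φ.obj I)) (n : ℕ) (X : A)
    (h : ∀ p, p < n → IsZero ((Φ.rightDerived p).obj X)) : IsIso (RDer.edgeOut Φ Ψ n X) := by
  haveI : IsIso (RDer.homologyComparison Ψ ((Φ.mapHomologicalComplex _).obj (injectiveResolution X).cocomplex) n) :=
    isIso_homologyComparison Ψ _ (fun i => hΦ _ ((injectiveResolution X).injective i)) n fun p hp =>
      (h p hp).of_iso ((injectiveResolution X).isoRightDerivedObj Φ p).symm
  exact IsIso.comp_isIso' inferInstance (IsIso.comp_isIso' inferInstance inferInstance)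

end Groth.L28.Supp
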