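import Groth.Agent.L28.Supp.Excise

/-!
Etale excision for sections with supports.
-/

set_option autoImplicit false
set_option linter.style.haveILetI false
set_option linter.unusedSectionVars false
set_option backward.isDefEq.respectTransparency.types false

universe u

open CategoryTheory CategoryTheory.Limits AlgebraicGeometry Opposite
open Groth.L27.ExtZero (epsE)

namespace Groth.L28.Supp

/-- two morphisms with the same image point of trivial residue extension agree at that point -/
theorem fromSpecResidueField_comp_eq {X' X Z : Scheme.{u}} (f : X' ⟶ X) (g₁ g₂ : Z ⟶ X') (w : g₁ ≫ f = g₂ ≫ f)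
    (z : Z) (hab : g₁ z = g₂ z) (hκ : Function.Surjective (f.residueFieldMap (g₁ z))) :
    Z.fromSpecResidueField z ≫ g₁ = Z.fromSpecResidueField z ≫ g₂ := by
  haveI : IsIso (f.residueFieldMap (g₁ z)) :=
    (ConcreteCategory.isIso_iff_bijective _).2 ⟨RingHom.injective _, hκ⟩
  have e₁ : Z.fromSpecResidueField z ≫ g₁ = Spec.map (g₁.residueFieldMap z) ≫ X'.fromSpecResidueField (g₁ z) :=
    (g₁.SpecMap_residueFieldMap_fromSpecResidueField z).symm
  have e₂ : Z.fromSpecResidueField z ≫ g₂ =
      (Spec.map (g₂.residueFieldMap z) ≫ Spec.map (X'.residueFieldCongr hab).hom) ≫ X'.fromSpecResidueField (g₁ z) := by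
    rw [Category.assoc, Scheme.residueFieldCongr_fromSpecResidueField]
    exact (g₂.SpecMap_residueFieldMap_fromSpecResidueField z).symm
  have em : X'.fromSpecResidueField (g₁ z) ≫ f = Spec.map (f.residueFieldMap (g₁ z)) ≫ X.fromSpecResidueField _ :=
    (f.SpecMap_residueFieldMap_fromSpecResidueField _).symm
  haveI : Mono (X'.fromSpecResidueField (g₁ z) ≫ f) := by rw [em]; infer_instance
  rw [e₁, e₂]
  refine congrArg (· ≫ _) ((cancel_mono (X'.fromSpecResidueField (g₁ z) ≫ f)).1 ?_)
  rw [← Category.assoc, ← e₁, ← Category.assoc, ← e₂, Category.assoc, Category.assoc, w]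

variable {X X' U U' : Scheme.{u}} (f : X' ⟶ X) [AlgebraicGeometry.Etale f] (j : U ⟶ X) [IsOpenImmersion j]
  (j' : U' ⟶ X') [IsOpenImmersion j'] (hU' : Set.range j'.base = f.base ⁻¹' Set.range j.base)
  (hZ : Set.BijOn f.base (Set.range j'.base)ᶜ (Set.range j.base)ᶜ)
  (hκ : ∀ x' : ↥X', x' ∉ Set.range j'.base → Function.Surjective (f.residueFieldMap x'))
variable [EtShriek.JCont j] [EtShriek.JCont f] [EtShriek.JCont j']

/-- the etale scheme, as an object over the base -/
noncomputable abbrev etTop : X.Etale := (EtShriek.compEtale f).obj (EtCoh.top X')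

include hU' in
theorem etRes_cond {F : EtCoh.Ab X} (t : (suppTop j).obj F) :
    ∃ b, (secAt (EtCoh.top X')).map ((secι j').app ((EtShriek.restrAlong f).obj F)) b =
      ((secAt (EtCoh.top X)).map ((secι j).app F) ≫ F.obj.map ((EtCore.topIsTerminal X).from (etTop f)).op) t := by
  refine (exists_secι_iff j' _ _ _).2 ?_
  refine (Functor.map_comp_apply F.obj _ _ _).symm.trans ?_
  let l : U' ⟶ U := IsOpenImmersion.lift j (j' ≫ f) (by
    rintro - ⟨z, rfl⟩
    exact (hU'.le ⟨z, rfl⟩ : j' z ∈ f ⁻¹' Set.range j))
  have hl : l ≫ j = j' ≫ f := IsOpenImmersion.lift_fac _ _ _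
  exact eq_zero_of_factor
    (MorphismProperty.Over.homMk (pullback.lift ((pullback.snd (EtCoh.top X').hom j' ≫ l) ≫ j) (pullback.snd (EtCoh.top X').hom j' ≫ l)
      (Category.comp_id _)) ((pullback.lift_snd_assoc _ _ _ _).trans ((Category.assoc _ _ _).trans
        ((congrArg (_ ≫ ·) hl).trans (Category.assoc _ _ _).symm))) :
      (EtShriek.compEtale f).obj ((EtShriek.compEtale j').obj ((EtCoh.bc j').obj (EtCoh.top X'))) ⟶
        (EtShriek.compEtale j).obj ((EtCoh.bc j).obj (EtCoh.top X))) _ _ ((exists_secι_iff j F _ _).1 ⟨t, rfl⟩)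

/-- restriction of sections with supports along an etale morphism -/
noncomputable def etRes : suppTop j ⟶ EtShriek.restrAlong f ⋙ suppTop j' where
  app F := liftHom _ (injective_secι j' ((EtShriek.restrAlong f).obj F) _)
    ((secAt (EtCoh.top X)).map ((secι j).app F) ≫ F.obj.map ((EtCore.topIsTerminal X).from (etTop f)).op)
    (etRes_cond f j j' hU')
  naturality F G φ := ConcreteCategory.hom_ext _ _ fun t => by
    refine injective_secι j' ((EtShriek.restrAlong f).obj G) _ ?_
    exact (apply_liftHom _ (injective_secι j' ((EtShriek.restrAlong f).obj G) _) _ (etRes_cond f j j' hU') _).trans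
      ((congrArg (G.obj.map ((EtCore.topIsTerminal X).from (etTop f)).op) (secι_nat j φ _ t)).trans
        ((NatTrans.naturality_apply φ.hom _ _).symm.trans
          ((congrArg ((secAt (EtCoh.top X')).map ((EtShriek.restrAlong f).map φ))
            (apply_liftHom _ (injective_secι j' ((EtShriek.restrAlong f).obj F) _) _ (etRes_cond f j j' hU') t)).symm.trans
              (secι_nat j' ((EtShriek.restrAlong f).map φ) _ _).symm)))

/-- the two pieces of the covering -/
noncomputable abbrev piece : Bool → X.Etale :=
  fun b => cond b (etTop f) ((EtShriek.compEtale j).obj ((EtCoh.bc j).obj (EtCoh.top X)))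

include hU' hZ in
theorem isSheafFor_piece (F : EtCoh.Ab X) :
    (Presieve.ofArrows (piece f j) fun b => (EtCore.topIsTerminal X).from (piece f j b)).IsSheafFor
      (F.obj ⋙ CategoryTheory.forget AddCommGrpCat.{u + 1}) := by
  rw [Presieve.isSheafFor_iff_generate]
  refine ((CategoryTheory.isSheaf_iff_isSheaf_of_type _ _).1
    (GrothendieckTopology.HasSheafCompose.isSheaf (F := CategoryTheory.forget AddCommGrpCat.{u + 1}) F.obj F.property)) _
    ((Groth.L27.EtSite.mem_topology_iff _).2 fun x => ?_)
  have e : ∀ {A : X.Etale} (g : A ⟶ EtCoh.top X) (a : A.left), g.left.base a = A.hom a := fun g a =>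
    congrArg (fun m => m a) ((Category.comp_id g.left).symm.trans (MorphismProperty.Over.w g))
  by_cases hx : x ∈ Set.range j
  · obtain ⟨y, hy⟩ := hx
    refine ⟨piece f j false, (EtCore.topIsTerminal X).from _, (pullback.lift j (𝟙 U) ((Category.comp_id _).trans (Category.id_comp _).symm) :
      U ⟶ pullback (EtCoh.top X).hom j) y, Sieve.le_generate _ _ _ (Presieve.ofArrows.mk false), ?_⟩
    refine (e _ _).trans ?_
    show (pullback.snd (EtCoh.top X).hom j ≫ j) _ = x
    rw [← Scheme.Hom.comp_apply, pullback.lift_snd_assoc, Category.id_comp]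
    exact hy
  · obtain ⟨x', -, hx'⟩ := hZ.surjOn hx
    refine ⟨piece f j true, (EtCore.topIsTerminal X).from _, x', Sieve.le_generate _ _ _ (Presieve.ofArrows.mk true), (e _ _).trans ?_⟩
    show (𝟙 X' ≫ f) x' = x
    rw [Category.id_comp]
    exact hx'

include hZ in
theorem etRes_injective (F : EtCoh.Ab X) : Function.Injective ((etRes f j j' hU').app F) := by
  refine (injective_iff_map_eq_zero _).2 fun a ha => injective_secι j F _ ((?_ : _ = _).trans (map_zero _).symm)
  refine (isSheafFor_piece f j j' hU' hZ F).isSeparatedFor.ext fun A g hg => ?_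
  cases hg with
  | mk b =>
    refine Eq.trans ?_ (map_zero (F.obj.map ((EtCore.topIsTerminal X).from (piece f j b)).op).hom).symm
    cases b
    · exact eq_zero_of_factor (𝟙 _) _ _ ((exists_secι_iff j F _ _).1 ⟨a, rfl⟩)
    · exact (apply_liftHom _ (injective_secι j' ((EtShriek.restrAlong f).obj F) _) _ (etRes_cond f j j' hU') a).symm.trans
        ((congrArg _ ha).trans (map_zero _))

include hU' hZ hκ in
theorem etRes_compatible (F : EtCoh.Ab X) (t : F.obj.obj (op (etTop f)))
    (ht : ((EtShriek.restrAlong f).obj F).obj.map (epsE j' (EtCoh.top X')).op t = 0) {T : X.Etale}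
    (g₁ g₂ : T ⟶ etTop f) : F.obj.map g₁.op t = F.obj.map g₂.op t := by
  have w : g₁.left ≫ f = g₂.left ≫ f :=
    ((congrArg (g₁.left ≫ ·) (Category.id_comp f)).symm.trans (MorphismProperty.Over.w g₁)).trans
      ((MorphismProperty.Over.w g₂).symm.trans (congrArg (g₂.left ≫ ·) (Category.id_comp f)))
  have hsep : ∀ {T' : X.Etale} (g : T' ⟶ etTop f), (∀ z, g.left z ∈ Set.range j') → F.obj.map g.op t = 0 := by
    intro T' g hg
    let l : T'.left ⟶ U' := IsOpenImmersion.lift j' g.left (Set.range_subset_iff.2 hg)
    have hl : l ≫ j' = g.left := IsOpenImmersion.lift_fac _ _ _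
    let a : T' ⟶ (EtShriek.compEtale f).obj ((EtShriek.compEtale j').obj ((EtCoh.bc j').obj (EtCoh.top X'))) :=
      MorphismProperty.Over.homMk (pullback.lift g.left l ((Category.comp_id _).trans hl.symm)) (by
        refine ((congrArg (_ ≫ ·) (Category.assoc _ _ _)).trans (pullback.lift_snd_assoc _ _ _ _)).trans ?_
        exact (Category.assoc _ _ _).symm.trans ((congrArg (· ≫ f) hl).trans
          ((congrArg (g.left ≫ ·) (Category.id_comp f)).symm.trans (MorphismProperty.Over.w g))))
    rw [show g = a ≫ (EtShriek.compEtale f).map (epsE j' (EtCoh.top X')) from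
      MorphismProperty.Over.Hom.ext (pullback.lift_fst _ _ _).symm, op_comp, Functor.map_comp_apply]
    exact (congrArg _ ht).trans (map_zero _)
  let S : Sieve T :=
    { arrows := fun T' h => F.obj.map (h ≫ g₁).op t = F.obj.map (h ≫ g₂).op t
      downward_closed := fun {T' T''} h hh k => by
        simp only [Category.assoc, op_comp, Functor.map_comp_apply] at hh ⊢
        rw [hh] }
  have hS : S ∈ X.smallEtaleTopology T := (Groth.L27.EtSite.mem_topology_iff _).2 fun z => by
    have hor : g₁.left z ∈ Set.range j' ∨ g₁.left z ∉ Set.range j' := em _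
    rcases hor with hz | hz
    · haveI : AlgebraicGeometry.Etale ((g₁.left ⁻¹ᵁ j'.opensRange).ι ≫ T.hom) :=
        haveI : AlgebraicGeometry.Etale T.hom := T.prop
        inferInstance
      let V : X.Etale := MorphismProperty.Over.mk ⊤ ((g₁.left ⁻¹ᵁ j'.opensRange).ι ≫ T.hom)
        (inferInstanceAs (AlgebraicGeometry.Etale ((g₁.left ⁻¹ᵁ j'.opensRange).ι ≫ T.hom)))
      let h : V ⟶ T := MorphismProperty.Over.homMk (g₁.left ⁻¹ᵁ j'.opensRange).ι rfl
      refine ⟨V, h, ⟨z, hz⟩, ?_, rfl⟩
      refine (hsep (h ≫ g₁) fun v => v.2).trans (hsep (h ≫ g₂) fun v => ?_).symm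
      refine hU'.ge ?_
      show f (g₂.left ((g₁.left ⁻¹ᵁ j'.opensRange).ι v)) ∈ Set.range j
      exact (congrArg (· ∈ Set.range j) (congrArg (fun m => m ((g₁.left ⁻¹ᵁ j'.opensRange).ι v)) w)).mp (hU'.le v.2)
    · have hz₂ : g₂.left z ∉ Set.range j' := fun h => hz (hU'.ge (by
        show f (g₁.left z) ∈ Set.range j
        exact (congrArg (· ∈ Set.range j) (congrArg (fun m => m z) w).symm).mp (hU'.le h)))
      have hab : g₁.left z = g₂.left z := hZ.injOn hz hz₂ (congrArg (fun m => m z) w)
      have hξ := fromSpecResidueField_comp_eq f g₁.left g₂.left w z hab (hκ _ hz)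
      haveI : IsOpenImmersion (pullback.diagonal f) := inferInstance
      let q : T.left ⟶ pullback f f := pullback.lift g₁.left g₂.left w
      let π := pullback.fst q (pullback.diagonal f)
      haveI : AlgebraicGeometry.Etale (π ≫ T.hom) :=
        haveI : AlgebraicGeometry.Etale T.hom := T.prop
        inferInstance
      let V : X.Etale := MorphismProperty.Over.mk ⊤ (π ≫ T.hom) (inferInstanceAs (AlgebraicGeometry.Etale (π ≫ T.hom)))
      let h : V ⟶ T := MorphismProperty.Over.homMk π rfl
      let ξ : Spec (T.left.residueField z) ⟶ pullback q (pullback.diagonal f) :=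
        pullback.lift (T.left.fromSpecResidueField z) (T.left.fromSpecResidueField z ≫ g₁.left)
          (pullback.hom_ext
            (by simp [q]; exact congrArg (T.left.fromSpecResidueField z ≫ ·) (pullback.lift_fst g₁.left g₂.left w))
            (by simp [q]; exact (congrArg (T.left.fromSpecResidueField z ≫ ·) (pullback.lift_snd g₁.left g₂.left w)).trans hξ.symm))
      refine ⟨V, h, ξ (IsLocalRing.closedPoint _), ?_, ?_⟩
      · show F.obj.map (h ≫ g₁).op t = F.obj.map (h ≫ g₂).op t
        have hh : h ≫ g₁ = h ≫ g₂ := MorphismProperty.Over.Hom.ext (by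
          show π ≫ g₁.left = π ≫ g₂.left
          have e₁ := congrArg (· ≫ pullback.fst f f) (pullback.condition (f := q) (g := pullback.diagonal f))
          have e₂ := congrArg (· ≫ pullback.snd f f) (pullback.condition (f := q) (g := pullback.diagonal f))
          simp [q] at e₁ e₂
          exact ((congrArg (π ≫ ·) (pullback.lift_fst g₁.left g₂.left w)).symm.trans (e₁.trans e₂.symm)).trans
            (congrArg (π ≫ ·) (pullback.lift_snd g₁.left g₂.left w)))
        rw [hh]
      · show (ξ ≫ π) (IsLocalRing.closedPoint _) = z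
        rw [pullback.lift_fst]
        exact Scheme.fromSpecResidueField_apply _ _
  exact CategoryTheory.Presieve.IsSeparatedFor.ext (P := F.obj ⋙ CategoryTheory.forget AddCommGrpCat.{u + 1})
    (((CategoryTheory.isSheaf_iff_isSheaf_of_type _ _).1
      (GrothendieckTopology.HasSheafCompose.isSheaf (F := CategoryTheory.forget AddCommGrpCat.{u + 1}) F.obj F.property)).isSeparated S hS)
    fun {T'} h hh => (Functor.map_comp_apply F.obj g₁.op h.op t).symm.trans (hh.trans (Functor.map_comp_apply F.obj g₂.op h.op t))

include hZ hκ in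
theorem etRes_surjective (F : EtCoh.Ab X) : Function.Surjective ((etRes f j j' hU').app F) := by
  intro b
  let t : F.obj.obj (op (etTop f)) := (secAt (EtCoh.top X')).map ((secι j').app ((EtShriek.restrAlong f).obj F)) b
  have ht := (exists_secι_iff j' ((EtShriek.restrAlong f).obj F) _ t).1 ⟨b, rfl⟩
  let x : ∀ c, (F.obj ⋙ CategoryTheory.forget AddCommGrpCat.{u + 1}).obj (op (piece f j c)) := fun c =>
    match c with
    | true => t
    | false => (0 : F.obj.obj (op (piece f j false)))
  have hmix : ∀ {T : X.Etale} (g : T ⟶ piece f j true) (g' : T ⟶ piece f j false), F.obj.map g.op t = 0 := by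
    intro T g g'
    have hr : ∀ z, g.left z ∈ Set.range j' := fun z => hU'.ge (by
      show f (g.left z) ∈ Set.range j
      have e1 : f (g.left z) = T.hom z :=
        congrArg (fun m => m z) ((congrArg (g.left ≫ ·) (Category.id_comp f)).symm.trans (MorphismProperty.Over.w g))
      have e2 : T.hom z = j ((g'.left ≫ pullback.snd (EtCoh.top X).hom j) z) :=
        congrArg (fun m => m z) ((MorphismProperty.Over.w g').symm.trans (Category.assoc _ _ _).symm)
      exact ⟨_, (e1.trans e2).symm⟩)
    let l : T.left ⟶ U' := IsOpenImmersion.lift j' g.left (Set.range_subset_iff.2 hr)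
    have hl : l ≫ j' = g.left := IsOpenImmersion.lift_fac _ _ _
    let a : T ⟶ (EtShriek.compEtale f).obj ((EtShriek.compEtale j').obj ((EtCoh.bc j').obj (EtCoh.top X'))) :=
      MorphismProperty.Over.homMk (pullback.lift g.left l ((Category.comp_id _).trans hl.symm)) (by
        refine ((congrArg (_ ≫ ·) (Category.assoc _ _ _)).trans (pullback.lift_snd_assoc _ _ _ _)).trans ?_
        exact (Category.assoc _ _ _).symm.trans ((congrArg (· ≫ f) hl).trans
          ((congrArg (g.left ≫ ·) (Category.id_comp f)).symm.trans (MorphismProperty.Over.w g))))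
    rw [show g = a ≫ (EtShriek.compEtale f).map (epsE j' (EtCoh.top X')) from
      MorphismProperty.Over.Hom.ext (pullback.lift_fst _ _ _).symm, op_comp, Functor.map_comp_apply]
    exact (congrArg _ ht).trans (map_zero _)
  have hc : Presieve.Arrows.Compatible _ (fun c => (EtCore.topIsTerminal X).from (piece f j c)) x := by
    intro c c' T g g' _
    match c, c' with
    | true, true => exact etRes_compatible f j j' hU' hZ hκ F t ht g g'
    | true, false => exact (hmix g g').trans (map_zero (F.obj.map g'.op).hom).symm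
    | false, true => exact (map_zero (F.obj.map g.op).hom).trans (hmix g' g).symm
    | false, false => exact (map_zero (F.obj.map g.op).hom).trans (map_zero (F.obj.map g'.op).hom).symm
  obtain ⟨s, hs, -⟩ := (Presieve.isSheafFor_arrows_iff _ _).1 (isSheafFor_piece f j j' hU' hZ F) x hc
  obtain ⟨a, ha⟩ := (exists_secι_iff j F _ s).2 (eq_zero_of_factor (𝟙 _) _ _ (hs false))
  refine ⟨a, injective_secι j' ((EtShriek.restrAlong f).obj F) _
    ((apply_liftHom _ (injective_secι j' ((EtShriek.restrAlong f).obj F) _) _ (etRes_cond f j j' hU') a).trans ?_)⟩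
  exact (congrArg _ ha).trans (hs true)

include hU' hZ hκ in
theorem nonempty_HY_iso_HY_etale (m : ℕ) (F : EtCoh.Ab X) :
    Nonempty ((EtDual.HY j m).obj F ≅ (EtDual.HY j' m).obj ((EtShriek.restrAlong f).obj F)) := by
  haveI : PreservesLimitsOfSize.{0, 0} (EtShriek.restrAlong f) := (EtShriek.extZeroAdj f).rightAdjoint_preservesLimits
  haveI : PreservesFiniteLimits (EtShriek.restrAlong f) := PreservesLimitsOfSize.preservesFiniteLimits _
  haveI : PreservesColimitsOfSize.{0, 0} (EtShriek.restrAlong f) :=
    (Groth.L27.ExtZero.restrAdj f).leftAdjoint_preservesColimits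
  haveI : PreservesFiniteColimits (EtShriek.restrAlong f) := PreservesColimitsOfSize.preservesFiniteColimits _
  haveI : PreservesFiniteLimits (suppTop j') := comp_preservesFiniteLimits _ _
  haveI : ∀ G, IsIso ((etRes f j j' hU').app G) := fun G => (ConcreteCategory.isIso_iff_bijective _).2
    ⟨etRes_injective f j j' hU' hZ G, etRes_surjective f j j' hU' hZ hκ G⟩
  haveI : IsIso (etRes f j j' hU') := NatIso.isIso_of_isIso_app _
  obtain ⟨a⟩ := nonempty_rightDerived_iso (asIso (etRes f j j' hU')) m F
  obtain ⟨b⟩ := nonempty_precomp_iso (EtShriek.restrAlong f) (suppTop j')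
    (fun I _ => Groth.L27.ExtZero.injective_restrAlong f I) m F
  exact ⟨a ≪≫ b⟩

end Groth.L28.Supp
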