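import Groth.Agent.L28.Supp.Vanish
import Groth.Agent.L28.ProEt.Cech.Flasque

/-!
Removing a closed subset with vanishing local cohomology.
-/

set_option autoImplicit false
set_option linter.style.haveILetI false
set_option linter.unusedSectionVars false
set_option backward.isDefEq.respectTransparency.types false

universe u

open CategoryTheory CategoryTheory.Limits AlgebraicGeometry Opposite
open Groth.L27.ExtZero (epsE)

namespace Groth.L28.Supp

/-- corestriction of a homomorphism along an injective one -/
noncomputable def liftHom {A B C : AddCommGrpCat.{u + 1}} (i : B ⟶ C) (hi : Function.Injective i) (φ : A ⟶ C)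
    (h : ∀ a, ∃ b, i b = φ a) : A ⟶ B :=
  AddCommGrpCat.ofHom
    { toFun := fun a => (h a).choose
      map_zero' := hi ((h 0).choose_spec.trans ((map_zero φ.hom).trans (map_zero i.hom).symm))
      map_add' := fun a b => hi ((h (a + b)).choose_spec.trans ((map_add φ.hom a b).trans
        ((congrArg₂ (· + ·) (h a).choose_spec (h b).choose_spec).symm.trans (map_add i.hom _ _).symm))) }

theorem apply_liftHom {A B C : AddCommGrpCat.{u + 1}} (i : B ⟶ C) (hi : Function.Injective i) (φ : A ⟶ C)
    (h : ∀ a, ∃ b, i b = φ a) (a : A) : i (liftHom i hi φ h a) = φ a :=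
  (h a).choose_spec

variable {X X' U : Scheme.{u}} (j : U ⟶ X) [IsOpenImmersion j] (k' : X' ⟶ X) [IsOpenImmersion k']
  (j' : U ⟶ X') [IsOpenImmersion j'] (hfac : j' ≫ k' = j)

/-- global sections with supports, as sections over the final object -/
noncomputable abbrev suppTop : EtCoh.Ab X ⥤ AddCommGrpCat.{u + 1} := EtDual.secSupp j ⋙ secAt (EtCoh.top X)

/-- sections with supports on the open part -/
noncomputable abbrev suppOpen [EtShriek.JCont k'] : EtCoh.Ab X ⥤ AddCommGrpCat.{u + 1} :=
  EtShriek.restrAlong k' ⋙ suppTop j'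

/-- the open part, as an object over `X` -/
noncomputable abbrev openTop : X.Etale := (EtShriek.compEtale k').obj (EtCoh.top X')

variable [EtShriek.JCont j] [EtShriek.JCont k'] [EtShriek.JCont j']

theorem secι_nat {S T : Scheme.{u}} (i : T ⟶ S) [IsOpenImmersion i] {F G : EtCoh.Ab S} (φ : F ⟶ G) (W : S.Etale)
    (b : (EtDual.secSupp i ⋙ secAt W).obj F) :
    (secAt W).map ((secι i).app G) ((secAt W).map ((EtDual.secSupp i).map φ) b) =
      (secAt W).map φ ((secAt W).map ((secι i).app F) b) :=
  ConcreteCategory.congr_hom (((secAt W).map_comp _ _).symm.trans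
    ((congrArg (secAt W).map ((secι i).naturality φ)).trans ((secAt W).map_comp _ _))) b

theorem eq_zero_of_factor {F : EtCoh.Ab X} {A B : X.Etale} (a : A ⟶ B) (f : A ⟶ EtCoh.top X)
    (g : B ⟶ EtCoh.top X) {s : F.obj.obj (op (EtCoh.top X))} (h : F.obj.map g.op s = 0) :
    F.obj.map f.op s = 0 := by
  rw [(EtCore.topIsTerminal X).hom_ext f (a ≫ g), op_comp, Functor.map_comp_apply, h, map_zero]

include hfac in
theorem supp_le (F : EtCoh.Ab X) (t : (suppTop k').obj F) :
    ∃ b, (secAt (EtCoh.top X)).map ((secι j).app F) b = (secAt (EtCoh.top X)).map ((secι k').app F) t :=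
  (exists_secι_iff j F _ _).2 (eq_zero_of_factor
    (MorphismProperty.Over.homMk (pullback.lift (pullback.fst (EtCoh.top X).hom j) (pullback.snd (EtCoh.top X).hom j ≫ j')
      ((pullback.condition (f := (EtCoh.top X).hom) (g := j)).trans ((congrArg (_ ≫ ·) hfac.symm).trans (Category.assoc _ _ _).symm))) (by
        show pullback.lift _ _ _ ≫ pullback.snd (EtCoh.top X).hom k' ≫ k' = pullback.snd (EtCoh.top X).hom j ≫ j
        exact (pullback.lift_snd_assoc _ _ _ _).trans ((Category.assoc _ _ _).trans (congrArg (_ ≫ ·) hfac))) :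
      (EtShriek.compEtale j).obj ((EtCoh.bc j).obj (EtCoh.top X)) ⟶
        (EtShriek.compEtale k').obj ((EtCoh.bc k').obj (EtCoh.top X)))
    _ _ ((exists_secι_iff k' F _ _).1 ⟨t, rfl⟩))

/-- the inclusion of sections with smaller supports -/
noncomputable def suppIncl : suppTop k' ⟶ suppTop j where
  app F := liftHom _ (injective_secι j F _) ((secAt (EtCoh.top X)).map ((secι k').app F)) (supp_le j k' j' hfac F)
  naturality F G φ := ConcreteCategory.hom_ext _ _ fun t => by
    refine injective_secι j G _ ?_
    exact (apply_liftHom _ (injective_secι j G _) _ (supp_le j k' j' hfac G) _).trans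
      ((secι_nat k' φ _ t).trans ((congrArg ((secAt (EtCoh.top X)).map φ)
        (apply_liftHom _ (injective_secι j F _) _ (supp_le j k' j' hfac F) t)).symm.trans (secι_nat j φ _ _).symm))

include hfac in
theorem zero_iff_open (F : EtCoh.Ab X) (s : F.obj.obj (op (EtCoh.top X))) :
    F.obj.map (epsE j (EtCoh.top X)).op s = 0 ↔
      ((EtShriek.restrAlong k').obj F).obj.map (epsE j' (EtCoh.top X')).op
        (F.obj.map ((EtCore.topIsTerminal X).from (openTop k')).op s) = 0 := by
  have e : ((EtShriek.restrAlong k').obj F).obj.map (epsE j' (EtCoh.top X')).op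
        (F.obj.map ((EtCore.topIsTerminal X).from (openTop k')).op s) =
      F.obj.map ((EtShriek.compEtale k').map (epsE j' (EtCoh.top X')) ≫
        (EtCore.topIsTerminal X).from (openTop k')).op s :=
    (Functor.map_comp_apply F.obj _ _ s).symm
  rw [e]
  constructor
  · exact fun h => eq_zero_of_factor
      (MorphismProperty.Over.homMk (pullback.lift (pullback.snd (EtCoh.top X').hom j' ≫ j) (pullback.snd (EtCoh.top X').hom j')
        (Category.comp_id _)) (by
          show pullback.lift _ _ _ ≫ pullback.snd (EtCoh.top X).hom j ≫ j = (pullback.snd (EtCoh.top X').hom j' ≫ j') ≫ k'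
          rw [pullback.lift_snd_assoc, Category.assoc, hfac]) :
        (EtShriek.compEtale k').obj ((EtShriek.compEtale j').obj ((EtCoh.bc j').obj (EtCoh.top X'))) ⟶
          (EtShriek.compEtale j).obj ((EtCoh.bc j).obj (EtCoh.top X))) _ _ h
  · exact fun h => eq_zero_of_factor
      (MorphismProperty.Over.homMk (pullback.lift (pullback.snd (EtCoh.top X).hom j ≫ j') (pullback.snd (EtCoh.top X).hom j)
        (Category.comp_id _)) (by
          show pullback.lift _ _ _ ≫ (pullback.snd (EtCoh.top X').hom j' ≫ j') ≫ k' = pullback.snd (EtCoh.top X).hom j ≫ j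
          rw [Category.assoc, pullback.lift_snd_assoc, hfac]) :
        (EtShriek.compEtale j).obj ((EtCoh.bc j).obj (EtCoh.top X)) ⟶
          (EtShriek.compEtale k').obj ((EtShriek.compEtale j').obj ((EtCoh.bc j').obj (EtCoh.top X')))) _ _ h

include hfac in
theorem supp_res (F : EtCoh.Ab X) (t : (suppTop j).obj F) :
    ∃ b, (secAt (EtCoh.top X')).map ((secι j').app ((EtShriek.restrAlong k').obj F)) b =
      ((secAt (EtCoh.top X)).map ((secι j).app F) ≫ F.obj.map ((EtCore.topIsTerminal X).from (openTop k')).op) t :=
  (exists_secι_iff j' _ _ _).2 ((zero_iff_open j k' j' hfac F _).1 ((exists_secι_iff j F _ _).1 ⟨t, rfl⟩))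

/-- restriction of sections with supports to the open part -/
noncomputable def suppRes : suppTop j ⟶ suppOpen k' j' where
  app F := liftHom _ (injective_secι j' ((EtShriek.restrAlong k').obj F) _)
    ((secAt (EtCoh.top X)).map ((secι j).app F) ≫ F.obj.map ((EtCore.topIsTerminal X).from (openTop k')).op)
    (supp_res j k' j' hfac F)
  naturality F G φ := ConcreteCategory.hom_ext _ _ fun t => by
    refine injective_secι j' ((EtShriek.restrAlong k').obj G) _ ?_
    exact (apply_liftHom _ (injective_secι j' ((EtShriek.restrAlong k').obj G) _) _ (supp_res j k' j' hfac G) _).trans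
      ((congrArg (G.obj.map ((EtCore.topIsTerminal X).from (openTop k')).op) (secι_nat j φ _ t)).trans
        ((NatTrans.naturality_apply φ.hom _ _).symm.trans
          ((congrArg ((secAt (EtCoh.top X')).map ((EtShriek.restrAlong k').map φ))
            (apply_liftHom _ (injective_secι j' ((EtShriek.restrAlong k').obj F) _) _ (supp_res j k' j' hfac F) t)).symm.trans
              (secι_nat j' ((EtShriek.restrAlong k').map φ) _ _).symm)))

theorem suppRes_exact (F : EtCoh.Ab X) (a : (suppTop j).obj F) :
    (suppRes j k' j' hfac).app F a = 0 ↔ ∃ z, (suppIncl j k' j' hfac).app F z = a := by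
  let s := (secAt (EtCoh.top X)).map ((secι j).app F) a
  have h1 : (suppRes j k' j' hfac).app F a = 0 ↔ F.obj.map ((EtCore.topIsTerminal X).from (openTop k')).op s = 0 := by
    refine (map_eq_zero_iff _ (injective_secι j' ((EtShriek.restrAlong k').obj F) _)).symm.trans ?_
    exact Eq.congr_left (apply_liftHom _ (injective_secι j' ((EtShriek.restrAlong k').obj F) _) _
      (supp_res j k' j' hfac F) a)
  have h2 : F.obj.map ((EtCore.topIsTerminal X).from (openTop k')).op s = 0 ↔
      F.obj.map (epsE k' (EtCoh.top X)).op s = 0 := by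
    constructor
    · exact fun h => eq_zero_of_factor
        (MorphismProperty.Over.homMk (pullback.snd (EtCoh.top X).hom k') (by
          show pullback.snd (EtCoh.top X).hom k' ≫ 𝟙 X' ≫ k' = pullback.snd (EtCoh.top X).hom k' ≫ k'
          rw [Category.id_comp]) :
          (EtShriek.compEtale k').obj ((EtCoh.bc k').obj (EtCoh.top X)) ⟶ openTop k') _ _ h
    · exact fun h => eq_zero_of_factor
        (MorphismProperty.Over.homMk (pullback.lift k' (𝟙 X') ((Category.comp_id _).trans (Category.id_comp _).symm)) (by
          show pullback.lift _ _ _ ≫ pullback.snd (EtCoh.top X).hom k' ≫ k' = 𝟙 X' ≫ k'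
          rw [pullback.lift_snd_assoc]) :
          openTop k' ⟶ (EtShriek.compEtale k').obj ((EtCoh.bc k').obj (EtCoh.top X))) _ _ h
  rw [h1, h2, ← exists_secι_iff k' F]
  constructor
  · rintro ⟨z, hz⟩
    exact ⟨z, injective_secι j F _ ((apply_liftHom _ (injective_secι j F _) _ (supp_le j k' j' hfac F) z).trans hz)⟩
  · rintro ⟨z, rfl⟩
    exact ⟨z, (apply_liftHom _ (injective_secι j F _) _ (supp_le j k' j' hfac F) z).symm⟩

theorem suppRes_surjective (I : EtCoh.Ab X) [Injective I] : Function.Surjective ((suppRes j k' j' hfac).app I) := by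
  intro b
  haveI : Injective I.obj := Injective.injective_of_adjoint (sheafificationAdjunction _ AddCommGrpCat.{u + 1}) I
  haveI : Mono ((EtCore.topIsTerminal X).from (openTop k')) := by
    have e : ((EtCore.topIsTerminal X).from (openTop k')).left = k' :=
      (Category.comp_id _).symm.trans ((MorphismProperty.Over.w ((EtCore.topIsTerminal X).from (openTop k'))).trans
        (Category.id_comp k'))
    haveI : Mono ((EtCore.topIsTerminal X).from (openTop k')).left := by
      rw [e]; exact (inferInstanceAs (Mono k'))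
    exact ⟨fun p q h => MorphismProperty.Over.Hom.ext
      ((cancel_mono ((EtCore.topIsTerminal X).from (openTop k')).left).1 (congrArg (fun m => m.left) h))⟩
  obtain ⟨s, hs⟩ := ProEt.Cech.surjective_res_of_injective.{u + 1} I.obj ((EtCore.topIsTerminal X).from (openTop k'))
    ((secAt (EtCoh.top X')).map ((secι j').app ((EtShriek.restrAlong k').obj I)) b)
  obtain ⟨a, ha⟩ := (exists_secι_iff j I _ s).2 ((zero_iff_open j k' j' hfac I s).2
    ((congrArg _ hs).trans ((exists_secι_iff j' _ _ _).1 ⟨b, rfl⟩)))
  refine ⟨a, injective_secι j' ((EtShriek.restrAlong k').obj I) _ ((apply_liftHom _ (injective_secι j' ((EtShriek.restrAlong k').obj I) _) _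
    (supp_res j k' j' hfac I) a).trans ?_)⟩
  exact (congrArg (I.obj.map _) ha).trans hs

include hfac in
/-- removing a closed subset with vanishing local cohomology in two degrees -/
theorem nonempty_HY_iso_HY_restr (m : ℕ) (F : EtCoh.Ab X)
    (h : ∀ p, p ≤ m + 1 → IsZero ((EtDual.locCoh k' p).obj F)) :
    Nonempty ((EtDual.HY j m).obj F ≅ (EtDual.HY j' m).obj ((EtShriek.restrAlong k').obj F)) := by
  haveI : PreservesLimitsOfSize.{0, 0} (EtShriek.restrAlong k') := (EtShriek.extZeroAdj k').rightAdjoint_preservesLimits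
  haveI : PreservesFiniteLimits (EtShriek.restrAlong k') := PreservesLimitsOfSize.preservesFiniteLimits _
  haveI : PreservesColimitsOfSize.{0, 0} (EtShriek.restrAlong k') :=
    (Groth.L27.ExtZero.restrAdj k').leftAdjoint_preservesColimits
  haveI : PreservesFiniteColimits (EtShriek.restrAlong k') := PreservesColimitsOfSize.preservesFiniteColimits _
  haveI : PreservesFiniteLimits (suppTop j) := comp_preservesFiniteLimits _ _
  haveI : PreservesFiniteLimits (suppTop k') := comp_preservesFiniteLimits _ _
  haveI : PreservesFiniteLimits (suppTop j') := comp_preservesFiniteLimits _ _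
  haveI : PreservesFiniteLimits (suppOpen k' j') := comp_preservesFiniteLimits _ _
  have hz : ∀ q, q ≤ m + 1 → IsZero (((suppTop k').rightDerived q).obj F) := fun q hq =>
    isZero_comp (EtDual.secSupp k') (secAt (EtCoh.top X)) (fun I _ => injective_secSupp_obj k' I) q F
      fun p hp => h p (hp.trans hq)
  obtain ⟨a⟩ := nonempty_rightDerived_iso_of_isZero (suppIncl j k' j' hfac) (suppRes j k' j' hfac)
    (suppRes_exact j k' j' hfac) (fun I _ => suppRes_surjective j k' j' hfac I) m F (hz m (Nat.le_succ m)) (hz (m + 1) le_rfl)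
  obtain ⟨b⟩ := nonempty_precomp_iso (EtShriek.restrAlong k') (suppTop j')
    (fun I _ => Groth.L27.ExtZero.injective_restrAlong k' I) m F
  exact ⟨a ≪≫ b⟩

end Groth.L28.Supp

namespace Groth.L28.Supp

theorem nonempty_restr_tate {X V : Scheme.{u}} (v : V ⟶ X) [AlgebraicGeometry.Etale v] [EtShriek.JCont v]
    (n : ℕ) : ∀ d, Nonempty ((EtShriek.restrAlong v).obj (EtDual.tate X n d) ≅ EtDual.tate V n d)
  | 0 => ⟨restrConst v (ZMod n)⟩
  | d + 1 => by
    obtain ⟨a⟩ := nonempty_restr_tate v n d
    exact ⟨restrTensor v _ _ ≪≫ tensorAbIso a (restrMu v n)⟩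

end Groth.L28.Supp
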